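import Cfsg.Agent.Lib.Blocks.HomocyclicTwo
import Cfsg.Agent.Lib.BlockHeights.CharTools

/-!
# Counting products of two elements of order `p`

If the centralisers of the elements of order `p` have normal `p`-complements of one order, the
number of pairs of elements of order `p` with `p`-singular product is a sum over the principal
block.  When pairs generate groups with abelian `p`-quotient of exponent `p` and `p'`-kernel this
number is at least the fraction `(p - 2) / (p - 1)` of all pairs.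
-/

set_option autoImplicit false
set_option linter.unusedSectionVars false
set_option linter.style.haveILetI false

namespace Cfsg.Agent.Lib.Characters.PairCount

open Cfsg Cfsg.Agent.Lib.Characters Cfsg.Agent.Lib.Blocks Cfsg.Agent.Lib.Cores
open Cfsg.Agent.Lib.BlockHeights (irr_apply_one)
open scoped ComplexConjugate

universe u

variable {G : Type u} [Group G] [Fintype G] {p : ℕ}

/-- The elements of order `p`. -/
noncomputable def ordP (G : Type u) [Group G] [Fintype G] (p : ℕ) : Finset G :=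
  open scoped Classical in Finset.univ.filter fun z => orderOf z = p

theorem mem_ordP {z : G} : z ∈ ordP G p ↔ orderOf z = p := by simp [ordP]

/-- The mean value of a character on the elements of order `p`. -/
noncomputable def mean (p : ℕ) (χ : IrrCharacter G) : ℂ :=
  ((ordP G p).card : ℂ)⁻¹ * ∑ z ∈ ordP G p, (χ : G → ℂ) z

theorem sum_inv_ordP {R : Type*} [AddCommMonoid R] (f : G → R) :
    ∑ z ∈ ordP G p, f z⁻¹ = ∑ z ∈ ordP G p, f z :=
  Finset.sum_nbij' (fun z => z⁻¹) (fun z => z⁻¹)
    (fun z hz => mem_ordP.2 (by rw [orderOf_inv]; exact mem_ordP.1 hz))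
    (fun z hz => mem_ordP.2 (by rw [orderOf_inv]; exact mem_ordP.1 hz))
    (fun z _ => inv_inv z) (fun z _ => inv_inv z) (fun z _ => rfl)

theorem conj_mean (χ : IrrCharacter G) : conj (mean p χ) = mean p χ := by
  rw [mean, map_mul, map_inv₀, map_natCast, map_sum]
  simp_rw [← IsCharacter.apply_inv (irr_isCharacter χ)]
  rw [sum_inv_ordP (fun z => (χ : G → ℂ) z)]

theorem mean_eq_re (χ : IrrCharacter G) : mean p χ = ((mean p χ).re : ℂ) :=
  (Complex.conj_eq_iff_re.1 (conj_mean χ)).symm

/-- The `p'`-core of the centraliser of `z`, inside `G`. -/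
noncomputable def core (p : ℕ) (z : G) : Subgroup G :=
  (pPrimeCore p (Subgroup.centralizer ({z} : Set G))).map (Subgroup.centralizer ({z} : Set G)).subtype

/-- Elements whose `p`-part has order `p`, as a sum over the possible `p`-parts. -/
noncomputable def secFun (p : ℕ) : G → ℂ := fun g =>
  open scoped Classical in ∑ z ∈ ordP G p, if z⁻¹ * g ∈ core p z then 1 else 0

variable [Fact p.Prime]

theorem not_dvd_of_mem_core {z y : G} (hy : y ∈ core p z) : ¬ p ∣ orderOf y := by
  obtain ⟨c, hc, rfl⟩ := hy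
  intro h
  have h' : p ∣ orderOf c := by
    rwa [show orderOf ((Subgroup.centralizer ({z} : Set G)).subtype c) = orderOf c from
      orderOf_injective _ (Subgroup.subtype_injective _) c] at h
  refine not_dvd_card_pPrimeCore (p := p) (G := Subgroup.centralizer ({z} : Set G)) (h'.trans ?_)
  have e : orderOf (⟨c, hc⟩ : pPrimeCore p (Subgroup.centralizer ({z} : Set G))) = orderOf c :=
    (Subgroup.orderOf_coe _).symm
  rw [← e]
  exact orderOf_dvd_natCard _

theorem isPPart_of_mem_core {z g : G} (hz : orderOf z = p) (h : z⁻¹ * g ∈ core p z) : IsPPart p g z := by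
  refine ⟨z⁻¹ * g, mul_inv_cancel_left z g, ?_, ⟨1, by rw [hz, pow_one]⟩, not_dvd_of_mem_core h⟩
  obtain ⟨c, -, hc⟩ := h
  rw [← hc]
  exact (Subgroup.mem_centralizer_singleton_iff.1 c.2).symm

theorem secFun_cases (g : G) : secFun p g = 0 ∨ secFun p g = 1 := by
  classical
  by_cases h : ∃ z ∈ ordP G p, z⁻¹ * g ∈ core p z
  · obtain ⟨z, hz, hzg⟩ := h
    right
    rw [secFun, Finset.sum_eq_single z]
    · rw [if_pos hzg]
    · intro z' hz' hne
      rw [if_neg]
      intro h'
      exact hne (isPPart_unique Fact.out (isPPart_of_mem_core (mem_ordP.1 hz') h')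
        (isPPart_of_mem_core (mem_ordP.1 hz) hzg))
    · exact fun h' => absurd hz h'
  · left
    push_neg at h
    exact Finset.sum_eq_zero fun z hz => if_neg (h z hz)

theorem secFun_conj (g : G) : conj (secFun p g) = secFun p g := by
  rcases secFun_cases (p := p) g with h | h <;> simp [h]

theorem secFun_one : secFun p (1 : G) = 0 := by
  classical
  refine Finset.sum_eq_zero fun z hz => if_neg fun h => ?_
  rw [mul_one] at h
  exact not_dvd_of_mem_core h (by rw [orderOf_inv, mem_ordP.1 hz])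

theorem card_core (z : G) :
    Nat.card (core p z) = Nat.card (pPrimeCore p (Subgroup.centralizer ({z} : Set G))) :=
  Subgroup.card_map_of_injective (Subgroup.subtype_injective _)

/-- Sums against `secFun`. -/
theorem sum_secFun_mul (f : G → ℂ) :
    ∑ g, secFun p g * f g = ∑ z ∈ ordP G p,
      ∑ᶠ y : pPrimeCore p (Subgroup.centralizer ({z} : Set G)),
        f (z * ((y : Subgroup.centralizer ({z} : Set G)) : G)) := by
  classical
  simp only [secFun, Finset.sum_mul]
  rw [Finset.sum_comm]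
  refine Finset.sum_congr rfl fun z _ => ?_
  haveI := Fintype.ofFinite (pPrimeCore p (Subgroup.centralizer ({z} : Set G)))
  simp only [ite_mul, one_mul, zero_mul]
  rw [finsum_eq_sum_of_fintype, ← Finset.sum_filter]
  refine (Finset.sum_bij (fun (y : pPrimeCore p (Subgroup.centralizer ({z} : Set G))) _ =>
    z * ((y : Subgroup.centralizer ({z} : Set G)) : G)) ?_ ?_ ?_ fun y _ => rfl).symm
  · intro y _
    rw [Finset.mem_filter, inv_mul_cancel_left]
    exact ⟨Finset.mem_univ _, _, y.2, rfl⟩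
  · intro a _ b _ e
    exact Subtype.ext (Subtype.ext (mul_left_cancel e))
  · intro g hg
    obtain ⟨c, hc, hcg⟩ := (Finset.mem_filter.1 hg).2
    exact ⟨⟨c, hc⟩, Finset.mem_univ _, by
      rw [show ((c : Subgroup.centralizer ({z} : Set G)) : G) = z⁻¹ * g from hcg, mul_inv_cancel_left]⟩

/-- The fraction of the group with `p`-part of order `p`. -/
noncomputable def frac (G : Type u) [Group G] [Fintype G] (p κ : ℕ) : ℝ :=
  (κ : ℝ) * (ordP G p).card / (Nat.card G : ℝ)

section Main

variable {M : Ideal AlgInt} [hMp : M.IsPrime] {κ : ℕ}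

theorem classInner_secFun (hM : IsPModular p M)
    (hidx : ∀ z : G, orderOf z = p →
      ∃ k, (pPrimeCore p (Subgroup.centralizer ({z} : Set G))).index = p ^ k)
    (hκ : ∀ z : G, orderOf z = p → Nat.card (core p z) = κ) (χ : IrrCharacter G)
    [Decidable (χ ∈ principalBlock M G)] :
    classInner (secFun p) (χ : G → ℂ) =
      if χ ∈ principalBlock M G then (frac G p κ : ℂ) * mean p χ else 0 := by
  classical
  rw [classInner, sum_secFun_mul (fun g => conj ((χ : G → ℂ) g))]
  have hz : ∀ z ∈ ordP G p, ∑ᶠ y : pPrimeCore p (Subgroup.centralizer ({z} : Set G)),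
      conj ((χ : G → ℂ) (z * ((y : Subgroup.centralizer ({z} : Set G)) : G))) =
      if χ ∈ principalBlock M G then (κ : ℂ) * conj ((χ : G → ℂ) z) else 0 := by
    intro z hz
    haveI := Fintype.ofFinite (pPrimeCore p (Subgroup.centralizer ({z} : Set G)))
    obtain ⟨k, hk⟩ := hidx z (mem_ordP.1 hz)
    rw [finsum_eq_sum_of_fintype, ← map_sum,
      sum_section_pPrimeCore hM ⟨1, by rw [mem_ordP.1 hz, pow_one]⟩ hk χ, ← card_core,
      hκ z (mem_ordP.1 hz)]
    split_ifs <;> simp
  rw [Finset.sum_congr rfl hz]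
  split_ifs with h
  · rw [← Finset.mul_sum, ← map_sum]
    by_cases h0 : (ordP G p).card = 0
    · simp [Finset.card_eq_zero.1 h0, frac]
    have e : conj (∑ z ∈ ordP G p, (χ : G → ℂ) z) = ((ordP G p).card : ℂ) * mean p χ := by
      have h' := conj_mean (p := p) χ
      have hne : ((ordP G p).card : ℂ) ≠ 0 := Nat.cast_ne_zero.2 h0
      rw [mean] at h' ⊢
      rw [map_mul, map_inv₀, map_natCast] at h'
      rw [← mul_assoc, mul_inv_cancel₀ hne, one_mul]
      exact mul_left_cancel₀ (inv_ne_zero hne) h'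
    rw [e, frac]
    push_cast
    ring
  · simp

theorem mem_core_iff
    (hidx : ∀ z : G, orderOf z = p →
      ∃ k, (pPrimeCore p (Subgroup.centralizer ({z} : Set G))).index = p ^ k)
    {z y : G} (hz : orderOf z = p) : y ∈ core p z ↔ Commute y z ∧ ¬ p ∣ orderOf y := by
  refine ⟨fun hy => ⟨?_, not_dvd_of_mem_core hy⟩, fun ⟨hc, hy⟩ => ?_⟩
  · obtain ⟨c, -, rfl⟩ := hy
    exact Subgroup.mem_centralizer_singleton_iff.1 c.2
  · haveI : (pPrimeCore p (Subgroup.centralizer ({z} : Set G))).Normal := (pPrimeCore_mem p _).1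
    obtain ⟨k, hk⟩ := hidx z hz
    set c : Subgroup.centralizer ({z} : Set G) := ⟨y, Subgroup.mem_centralizer_singleton_iff.2 hc⟩
    refine ⟨c, ?_, rfl⟩
    set q := QuotientGroup.mk' (pPrimeCore p (Subgroup.centralizer ({z} : Set G))) c
    have h1 : orderOf q ∣ orderOf y := by
      rw [show orderOf y = orderOf c from Subgroup.orderOf_coe c]
      exact orderOf_map_dvd _ c
    have h2 : orderOf q ∣ p ^ k := hk ▸ orderOf_dvd_natCard q
    have h3 : orderOf q = 1 :=
      Nat.eq_one_of_dvd_coprimes ((((Fact.out : p.Prime).coprime_iff_not_dvd.2 hy).pow_left k)) h2 h1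
    exact (QuotientGroup.eq_one_iff c).1 (orderOf_eq_one_iff.1 h3)

theorem secFun_eq_one_iff
    (hidx : ∀ z : G, orderOf z = p →
      ∃ k, (pPrimeCore p (Subgroup.centralizer ({z} : Set G))).index = p ^ k) (g : G) :
    secFun p g = 1 ↔ ∃ z : G, orderOf z = p ∧ IsPPart p g z := by
  classical
  constructor
  · intro h
    by_contra hc
    push_neg at hc
    rw [secFun, Finset.sum_eq_zero (fun z hz => if_neg fun h' =>
      hc z (mem_ordP.1 hz) (isPPart_of_mem_core (mem_ordP.1 hz) h'))] at h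
    exact zero_ne_one h
  · rintro ⟨z, hz, hg⟩
    obtain ⟨y, hy, hc, -, hpy⟩ := id hg
    have hmem : z⁻¹ * g ∈ core p z := by
      rw [← hy, inv_mul_cancel_left]; exact (mem_core_iff hidx hz).2 ⟨hc.symm, hpy⟩
    rw [secFun, Finset.sum_eq_single z]
    · rw [if_pos hmem]
    · intro z' hz' hne
      rw [if_neg]
      exact fun h' => hne (isPPart_unique Fact.out (isPPart_of_mem_core (mem_ordP.1 hz') h') hg)
    · exact fun h' => absurd (mem_ordP.2 hz) h'

theorem isClassFunction_secFun
    (hidx : ∀ z : G, orderOf z = p →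
      ∃ k, (pPrimeCore p (Subgroup.centralizer ({z} : Set G))).index = p ^ k) :
    IsClassFunction G (secFun p) := by
  intro g h
  have key : ∀ a b : G, secFun p a = 1 → secFun p (b * a * b⁻¹) = 1 := by
    intro a b ha
    obtain ⟨z, hz, hzp⟩ := (secFun_eq_one_iff hidx a).1 ha
    refine (secFun_eq_one_iff hidx _).2 ⟨b * z * b⁻¹, ?_, Cfsg.Agent.Lib.Blocks.IsPPart.conjugate hzp b⟩
    exact (orderOf_injective (MulAut.conj b).toMonoidHom (MulAut.conj b).injective z).trans hz
  rcases secFun_cases (p := p) g with hg | hg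
  · rcases secFun_cases (p := p) (h * g * h⁻¹) with hh | hh
    · rw [hg, hh]
    · have := key _ h⁻¹ hh
      rw [show h⁻¹ * (h * g * h⁻¹) * h⁻¹⁻¹ = g by group, hg] at this
      exact absurd this zero_ne_one
  · rw [hg, key g h hg]

open Classical in
/-- The three identities. -/
theorem identities [Fintype (IrrCharacter G)] (hM : IsPModular p M)
    (hidx : ∀ z : G, orderOf z = p →
      ∃ k, (pPrimeCore p (Subgroup.centralizer ({z} : Set G))).index = p ^ k)
    (hκ : ∀ z : G, orderOf z = p → Nat.card (core p z) = κ) (hne : (ordP G p).Nonempty) :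
    let f := frac G p κ
    let B := Finset.univ.filter fun χ : IrrCharacter G => χ ∈ principalBlock M G
    0 < f ∧
    f * ∑ χ ∈ B, (mean p χ).re ^ 2 = 1 ∧
    ∑ χ ∈ B, (mean p χ).re * (charDegree (χ : G → ℂ) : ℝ) = 0 ∧
    ((ordP G p).card : ℝ) ^ 2 * (f * ∑ χ ∈ B, (mean p χ).re ^ 3 / (charDegree (χ : G → ℂ) : ℝ)) =
      ∑ u ∈ ordP G p, ∑ v ∈ ordP G p, (secFun p (u * v)).re := by
  intro f B
  have hcl : IsClassFunction G (secFun p) := isClassFunction_secFun hidx
  have he : ∀ g, secFun p g = ∑ χ ∈ B, (f : ℂ) * ((mean p χ).re : ℂ) * (χ : G → ℂ) g := by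
    intro g
    conv_lhs => rw [eq_sum_classInner hcl]
    rw [Finset.sum_apply, Finset.sum_filter]
    refine Finset.sum_congr rfl fun χ _ => ?_
    rw [Pi.smul_apply, smul_eq_mul, classInner_secFun hM hidx hκ, ← mean_eq_re]
    split_ifs <;> simp [f]
  obtain ⟨z₀, hz₀⟩ := hne
  have hκ0 : 0 < κ := hκ z₀ (mem_ordP.1 hz₀) ▸ Nat.card_pos
  have hg0 : (0 : ℝ) < Nat.card G := Nat.cast_pos.2 Nat.card_pos
  have hn0 : (0 : ℝ) < (ordP G p).card := Nat.cast_pos.2 (Finset.card_pos.2 ⟨z₀, hz₀⟩)
  have hf : 0 < f := by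
    have : (0 : ℝ) < κ := Nat.cast_pos.2 hκ0
    simp only [f, frac]; positivity
  refine ⟨hf, ?_, ?_, ?_⟩
  · -- norm of the section function
    have h1 : ∑ g : G, secFun p g * secFun p g = ((κ * (ordP G p).card : ℕ) : ℂ) := by
      have h : ∀ g : G, secFun p g * secFun p g = secFun p g * (fun _ : G => (1 : ℂ)) g := fun g => by
        rcases secFun_cases (p := p) g with h | h <;> simp [h]
      rw [Finset.sum_congr rfl (fun g (_ : g ∈ (Finset.univ : Finset G)) => h g),
        sum_secFun_mul (G := G) (p := p) (fun _ : G => (1 : ℂ))]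
      rw [Finset.sum_congr rfl (g := fun _ => (κ : ℂ)) fun z hz => ?_, Finset.sum_const, nsmul_eq_mul]
      · push_cast; ring
      · haveI := Fintype.ofFinite (pPrimeCore p (Subgroup.centralizer ({z} : Set G)))
        rw [finsum_eq_sum_of_fintype, Finset.sum_const, Finset.card_univ, ← Nat.card_eq_fintype_card,
          ← card_core, hκ z (mem_ordP.1 hz), nsmul_eq_mul, mul_one]
    have h2 : ∀ χ ∈ B, ∑ g, secFun p g * (χ : G → ℂ) g =
        (Nat.card G : ℂ) * ((f : ℂ) * ((mean p χ).re : ℂ)) := by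
      intro χ hχ
      have h := congrArg conj (classInner_secFun hM hidx hκ χ)
      rw [if_pos (Finset.mem_filter.1 hχ).2, classInner] at h
      simp only [map_mul, map_inv₀, map_natCast, map_sum, Complex.conj_conj, secFun_conj,
        conj_mean, Complex.conj_ofReal] at h
      rw [← mean_eq_re, ← h, ← mul_assoc, mul_inv_cancel₀ natCard_ne_zero_complex, one_mul]
    have h3 : ∑ g : G, secFun p g * secFun p g =
        ∑ χ ∈ B, (f : ℂ) * ((mean p χ).re : ℂ) * ∑ g, secFun p g * (χ : G → ℂ) g := by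
      conv_lhs => arg 2; ext g; arg 2; rw [he g]
      simp only [Finset.mul_sum]
      rw [Finset.sum_comm]
      exact Finset.sum_congr rfl fun χ _ => Finset.sum_congr rfl fun g _ => by ring
    rw [h1, Finset.sum_congr rfl fun χ hχ => by rw [h2 χ hχ]] at h3
    have h4 : ((κ * (ordP G p).card : ℕ) : ℝ) =
        ∑ χ ∈ B, f * (mean p χ).re * ((Nat.card G : ℝ) * (f * (mean p χ).re)) := by
      exact_mod_cast h3
    have h5 : ((κ * (ordP G p).card : ℕ) : ℝ) = f * Nat.card G := by
      simp only [f, frac]; push_cast; field_simp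
    have h6 : f * Nat.card G * 1 = f * Nat.card G * (f * ∑ χ ∈ B, (mean p χ).re ^ 2) := by
      rw [mul_one]
      conv_lhs => rw [← h5, h4]
      rw [Finset.mul_sum, Finset.mul_sum]
      exact Finset.sum_congr rfl fun χ _ => by ring
    exact (mul_left_cancel₀ (by positivity) h6).symm
  · have h := he 1
    rw [secFun_one] at h
    simp only [irr_apply_one] at h
    have h' : (0 : ℝ) = ∑ χ ∈ B, f * (mean p χ).re * (charDegree (χ : G → ℂ) : ℝ) := by
      exact_mod_cast h
    simp only [mul_assoc] at h'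
    rw [← Finset.mul_sum] at h'
    exact (mul_eq_zero.1 h'.symm).resolve_left hf.ne'
  · set F : G → ℂ := fun x => if x ∈ ordP G p then 1 else 0 with hFdef
    have hFcl : IsClassFunction G F := by
      intro g h
      have e : orderOf (h * g * h⁻¹) = orderOf g :=
        orderOf_injective (MulAut.conj h).toMonoidHom (MulAut.conj h).injective g
      simp only [hFdef, mem_ordP, e]
    have hsum : ∀ k : G → ℂ, ∑ x, F x * k x = ∑ x ∈ ordP G p, k x := fun k => by
      simp [hFdef, Finset.sum_ite_mem]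
    have hconv : ∀ k : G → ℂ, ∑ g, conv F F g * k g = ∑ u ∈ ordP G p, ∑ v ∈ ordP G p, k (u * v) := by
      intro k
      simp only [conv, Finset.sum_mul, mul_assoc]
      rw [Finset.sum_comm]
      simp only [← Finset.mul_sum]
      rw [hsum]
      refine Finset.sum_congr rfl fun u _ => ?_
      rw [← hsum (fun v => k (u * v))]
      exact (Fintype.sum_equiv (Equiv.mulLeft u) _ _ fun v => by simp).symm
    have hω : ∀ χ : IrrCharacter G, ∑ g, conv F F g * (χ : G → ℂ) g =
        (((ordP G p).card : ℂ) * mean p χ) ^ 2 / (χ : G → ℂ) 1 := by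
      intro χ
      have h0 := IsIrrCharacter.apply_one_ne_zero χ.2
      have h := omega_conv χ.2 hFcl F
      simp only [omega, hsum] at h
      have hne : ((ordP G p).card : ℂ) ≠ 0 := by exact_mod_cast hn0.ne'
      rw [mean, ← mul_assoc, mul_inv_cancel₀ hne, one_mul]
      field_simp at h ⊢
      linear_combination h
    have h : ∑ g, conv F F g * secFun p g =
        ∑ χ ∈ B, (f : ℂ) * ((mean p χ).re : ℂ) * ∑ g, conv F F g * (χ : G → ℂ) g := by
      conv_lhs => arg 2; ext g; rw [he g]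
      simp only [Finset.mul_sum]
      rw [Finset.sum_comm]
      exact Finset.sum_congr rfl fun χ _ => Finset.sum_congr rfl fun g _ => by ring
    rw [hconv (secFun p)] at h
    have h0 : ∀ χ ∈ B, (f : ℂ) * ((mean p χ).re : ℂ) * ∑ g, conv F F g * (χ : G → ℂ) g =
        (f : ℂ) * ((mean p χ).re : ℂ) * ((((ordP G p).card : ℂ) * ((mean p χ).re : ℂ)) ^ 2 /
          (charDegree (χ : G → ℂ) : ℂ)) := fun χ _ => by rw [hω χ, ← mean_eq_re, irr_apply_one]
    rw [Finset.sum_congr rfl h0] at h
    have h' := congrArg Complex.re h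
    simp only [Complex.re_sum] at h'
    rw [h', Finset.mul_sum, Finset.mul_sum]
    refine Finset.sum_congr rfl fun χ _ => ?_
    rw [show (f : ℂ) * ((mean p χ).re : ℂ) * ((((ordP G p).card : ℂ) * ((mean p χ).re : ℂ)) ^ 2 /
      (charDegree (χ : G → ℂ) : ℂ)) = ((f * (mean p χ).re * ((((ordP G p).card : ℝ) * (mean p χ).re) ^ 2 /
      (charDegree (χ : G → ℂ) : ℝ)) : ℝ) : ℂ) by push_cast; ring, Complex.ofReal_re]
    ring

end Main

/-- Two elements of order `p` generate a group which is of exponent `p` modulo a `p'`-group. -/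
def PairOK (p : ℕ) (G : Type u) [Group G] : Prop :=
  ∀ u v : G, orderOf u = p → orderOf v = p →
    ∃ K : Subgroup (Subgroup.closure ({u, v} : Set G)), K.Normal ∧
      (∀ k ∈ K, ¬ p ∣ orderOf k) ∧ (∀ a : Subgroup.closure ({u, v} : Set G), a ^ p ∈ K)

/-- Products of two elements of order `p` are `p`-regular or have `p`-part of order `p`. -/
theorem secFun_mul_of_dvd (hp : PairOK p G)
    (hidx : ∀ z : G, orderOf z = p →
      ∃ k, (pPrimeCore p (Subgroup.centralizer ({z} : Set G))).index = p ^ k)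
    {u v : G} (hu : orderOf u = p) (hv : orderOf v = p) (h : p ∣ orderOf (u * v)) :
    secFun p (u * v) = 1 := by
  obtain ⟨K, hK, hreg, hexp⟩ := hp u v hu hv
  rw [secFun_eq_one_iff hidx]
  obtain ⟨x, hx⟩ := exists_isPPart (Fact.out : p.Prime) (u * v)
  refine ⟨x, ?_, hx⟩
  have hx1 := isPPart_ne_one hx h
  obtain ⟨y, hy, hc, ⟨k, hk⟩, hpy⟩ := hx
  obtain ⟨n, hn⟩ := exists_pow_eq_regular_part (Fact.out : p.Prime) hy hc ⟨k, hk⟩ hpy
  have huv : u * v ∈ Subgroup.closure ({u, v} : Set G) :=
    mul_mem (Subgroup.subset_closure (by simp)) (Subgroup.subset_closure (by simp))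
  have hym : y ∈ Subgroup.closure ({u, v} : Set G) := hn ▸ pow_mem huv n
  have hxm : x ∈ Subgroup.closure ({u, v} : Set G) := by
    rw [show x = u * v * y⁻¹ from by rw [← hy, mul_inv_cancel_right]]
    exact mul_mem huv (inv_mem hym)
  set c : Subgroup.closure ({u, v} : Set G) := ⟨x, hxm⟩
  have h1 := hreg _ (hexp c)
  refine orderOf_eq_prime ?_ hx1
  by_contra hne
  refine h1 ?_
  have e : orderOf (c ^ p) = orderOf (x ^ p) := (Subgroup.orderOf_coe (c ^ p)).symm
  obtain ⟨m, -, hm⟩ := (Nat.dvd_prime_pow Fact.out).1 (show orderOf (x ^ p) ∣ p ^ k from hk ▸ orderOf_pow_dvd p)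
  rw [e, hm]
  rcases Nat.eq_zero_or_pos m with rfl | hm0
  · rw [pow_zero, orderOf_eq_one_iff] at hm
    exact absurd hm hne
  · exact dvd_pow_self p hm0.ne'

/-- For fixed `u`, at most one generator of each subgroup of order `p` gives a `p`-regular product. -/
theorem unique_regular (hp : PairOK p G) {u w : G} (hu : orderOf u = p) (hw : orderOf w = p)
    {a b : ℕ} (hab : a ≤ b) (hb : b < p) (ha : ¬ p ∣ orderOf (u * w ^ a))
    (hb' : ¬ p ∣ orderOf (u * w ^ b)) : a = b := by
  by_contra hne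
  obtain ⟨K, hK, hreg, hexp⟩ := hp u w hu hw
  haveI := hK
  let u' : Subgroup.closure ({u, w} : Set G) := ⟨u, Subgroup.subset_closure (by simp)⟩
  let w' : Subgroup.closure ({u, w} : Set G) := ⟨w, Subgroup.subset_closure (by simp)⟩
  have mem : ∀ x : Subgroup.closure ({u, w} : Set G), ¬ p ∣ orderOf (x : G) → x ∈ K := by
    intro x hx
    have h1 : orderOf (QuotientGroup.mk' K x) ∣ orderOf x := orderOf_map_dvd _ x
    have h2 : orderOf (QuotientGroup.mk' K x) ∣ p := orderOf_dvd_of_pow_eq_one (by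
      rw [← map_pow]; exact (QuotientGroup.eq_one_iff _).2 (hexp x))
    rw [Subgroup.orderOf_coe] at hx
    rcases (Nat.dvd_prime Fact.out).1 h2 with h | h
    · exact (QuotientGroup.eq_one_iff x).1 (orderOf_eq_one_iff.1 h)
    · exact absurd (h ▸ h1) hx
  have h1 := K.mul_mem (K.inv_mem (mem (u' * w' ^ a) ha)) (mem (u' * w' ^ b) hb')
  have e : (u' * w' ^ a)⁻¹ * (u' * w' ^ b) = w' ^ (b - a) := by
    rw [mul_inv_rev, mul_assoc, inv_mul_cancel_left, pow_sub _ hab]
    exact (((Commute.refl w').pow_pow a b).inv_left).eq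
  rw [e] at h1
  refine hreg _ h1 ?_
  rw [← Subgroup.orderOf_coe]
  show p ∣ orderOf (w ^ (b - a))
  rw [Nat.Coprime.orderOf_pow, hw]
  rw [hw]
  exact (Fact.out : p.Prime).coprime_iff_not_dvd.2 fun h =>
    absurd (Nat.le_of_dvd (by omega) h) (by omega)

open Classical in
theorem regular_pairs_bound (hp : PairOK p G) :
    ((ordP G p ×ˢ ordP G p).filter fun q => ¬ p ∣ orderOf (q.1 * q.2)).card * (p - 1) ≤
      (ordP G p).card ^ 2 := by
  have hpr : p.Prime := Fact.out
  set R := (ordP G p ×ˢ ordP G p).filter fun q => ¬ p ∣ orderOf (q.1 * q.2)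
  have hI : (Finset.Ico 1 p).card = p - 1 := Nat.card_Ico 1 p
  rw [← hI, ← Finset.card_product, sq, ← Finset.card_product]
  refine Finset.card_le_card_of_injOn (fun x => (x.1.1, x.1.2 ^ x.2)) ?_ ?_
  · intro x hx
    obtain ⟨h1, h2⟩ := Finset.mem_product.1 hx
    obtain ⟨h3, -⟩ := Finset.mem_filter.1 h1
    obtain ⟨hu, hv⟩ := Finset.mem_product.1 h3
    obtain ⟨hi1, hi2⟩ := Finset.mem_Ico.1 h2
    refine Finset.mem_product.2 ⟨hu, mem_ordP.2 ?_⟩
    rw [Nat.Coprime.orderOf_pow, mem_ordP.1 hv]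
    rw [mem_ordP.1 hv]
    exact hpr.coprime_iff_not_dvd.2 fun h => absurd (Nat.le_of_dvd (by omega) h) (by omega)
  · rintro ⟨⟨u, v⟩, i⟩ hx ⟨⟨u', v'⟩, j⟩ hy e
    simp only [Finset.mem_coe, Finset.mem_product, R, Finset.mem_filter, Finset.mem_Ico, mem_ordP] at hx hy
    simp only [Prod.mk.injEq] at e
    obtain ⟨rfl, e⟩ := e
    obtain ⟨⟨⟨hu, hv⟩, hr⟩, hi1, hi2⟩ := hx
    obtain ⟨⟨⟨-, hv'⟩, hr'⟩, hj1, hj2⟩ := hy
    -- write `v'` as a power of `v`
    have hc : Nat.Coprime j (orderOf v') := by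
      rw [hv']; exact (hpr.coprime_iff_not_dvd.2 fun h => absurd (Nat.le_of_dvd (by omega) h) (by omega)).symm
    obtain ⟨m, hm⟩ := exists_pow_eq_self_of_coprime hc
    have hv'v : v' = v ^ ((i * m) % p) := by
      rw [← hv, pow_mod_orderOf, pow_mul, e]; exact hm.symm
    have hlt : (i * m) % p < p := Nat.mod_lt _ hpr.pos
    rw [hv'v] at hr'
    have hr1 : ¬ p ∣ orderOf (u * v ^ 1) := by rwa [pow_one]
    have h1 : (i * m) % p = 1 := by
      rcases le_total ((i * m) % p) 1 with h | h
      · exact unique_regular hp hu hv h hpr.one_lt hr' hr1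
      · exact (unique_regular hp hu hv h hlt hr1 hr').symm
    rw [h1, pow_one] at hv'v
    subst hv'v
    have : i = j := by
      have := pow_inj_iff_of_orderOf_eq_zero (x := v') (n := i) (m := j)
      exact pow_injOn_Iio_orderOf (by rw [Set.mem_Iio, hv]; exact hi2)
        (by rw [Set.mem_Iio, hv]; exact hj2) e
    rw [this]

open Classical in
/-- **The inequality.** -/
theorem inequality [Fintype (IrrCharacter G)] {M : Ideal AlgInt} [hMp : M.IsPrime] {κ : ℕ}
    (hM : IsPModular p M) (hp : PairOK p G)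
    (hidx : ∀ z : G, orderOf z = p →
      ∃ k, (pPrimeCore p (Subgroup.centralizer ({z} : Set G))).index = p ^ k)
    (hκ : ∀ z : G, orderOf z = p → Nat.card (core p z) = κ) (hne : (ordP G p).Nonempty) :
    let f := frac G p κ
    let B := Finset.univ.filter fun χ : IrrCharacter G => χ ∈ principalBlock M G
    0 < f ∧
    f * ∑ χ ∈ B, (mean p χ).re ^ 2 = 1 ∧
    ∑ χ ∈ B, (mean p χ).re * (charDegree (χ : G → ℂ) : ℝ) = 0 ∧
    (p : ℝ) - 2 ≤ ((p : ℝ) - 1) *
      (f * ∑ χ ∈ B, (mean p χ).re ^ 3 / (charDegree (χ : G → ℂ) : ℝ)) := by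
  intro f B
  obtain ⟨h1, h2, h3, h4⟩ := identities hM hidx hκ hne
  refine ⟨h1, h2, h3, ?_⟩
  have hn0 : (0 : ℝ) < (ordP G p).card := Nat.cast_pos.2 (Finset.card_pos.2 hne)
  set R := (ordP G p ×ˢ ordP G p).filter fun q => ¬ p ∣ orderOf (q.1 * q.2) with hR
  have hb : ((R.card * (p - 1) : ℕ) : ℝ) ≤ (((ordP G p).card ^ 2 : ℕ) : ℝ) :=
    Nat.cast_le.2 (regular_pairs_bound hp)
  rw [Nat.cast_mul, Nat.cast_sub (Fact.out : p.Prime).one_lt.le, Nat.cast_pow, Nat.cast_one] at hb
  have hlow : ((ordP G p).card : ℝ) ^ 2 - R.card ≤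
      ∑ u ∈ ordP G p, ∑ v ∈ ordP G p, (secFun p (u * v)).re := by
    rw [← Finset.sum_product']
    have hsplit := Finset.sum_filter_add_sum_filter_not (ordP G p ×ˢ ordP G p)
      (fun q => ¬ p ∣ orderOf (q.1 * q.2)) (fun q => (secFun p (q.1 * q.2)).re)
    have hcard := Finset.card_filter_add_card_filter_not
      (s := ordP G p ×ˢ ordP G p) (fun q => ¬ p ∣ orderOf (q.1 * q.2))
    have h0 : 0 ≤ ∑ q ∈ R, (secFun p (q.1 * q.2)).re := Finset.sum_nonneg fun q _ => by
      rcases secFun_cases (p := p) (q.1 * q.2) with h | h <;> simp [h]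
    have h1' : ∀ q ∈ (ordP G p ×ˢ ordP G p).filter (fun q => ¬ ¬ p ∣ orderOf (q.1 * q.2)),
        (secFun p (q.1 * q.2)).re = 1 := by
      intro q hq
      obtain ⟨hq1, hq2⟩ := Finset.mem_filter.1 hq
      obtain ⟨hu, hv⟩ := Finset.mem_product.1 hq1
      rw [secFun_mul_of_dvd hp hidx (mem_ordP.1 hu) (mem_ordP.1 hv) (not_not.1 hq2)]
      rfl
    rw [Finset.sum_congr rfl h1', Finset.sum_const, nsmul_eq_mul, mul_one] at hsplit
    rw [← hsplit]
    rw [Finset.card_product] at hcard
    have hc : ((R.card : ℝ) + ((ordP G p ×ˢ ordP G p).filter (fun q => ¬ ¬ p ∣ orderOf (q.1 * q.2))).card)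
        = ((ordP G p).card : ℝ) ^ 2 := by
      rw [sq, ← Nat.cast_add, ← Nat.cast_mul, hR, hcard]
    rw [hR] at h0
    linarith
  rw [← h4] at hlow
  have hp1 : (0 : ℝ) ≤ (p : ℝ) - 1 := by
    have : (1 : ℝ) ≤ p := by exact_mod_cast (Fact.out : p.Prime).one_lt.le
    linarith
  nlinarith [mul_le_mul_of_nonneg_left hlow hp1, sq_pos_of_pos hn0]

end Cfsg.Agent.Lib.Characters.PairCount
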