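import Cfsg.Agent.Lib.Characters.PairCount.CyclicSetup
import Cfsg.Agent.Lib.Characters.RealVector.Algebra
import Cfsg.Agent.Lib.Components.Transport
import Mathlib.Analysis.SpecialFunctions.Complex.CircleAddChar
import Mathlib.Analysis.Complex.Circle

/-!
# The principal block restricted to a cyclic Sylow subgroup

Multiplicities of the linear characters of `P` in the characters of the principal block, and the
Gram matrix of their differences.
-/

set_option autoImplicit false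
set_option linter.unusedSectionVars false
set_option linter.style.haveILetI false

namespace Cfsg.Agent.Lib.Characters.PairCount.Cyclic

open Cfsg Cfsg.Agent.Lib.Characters Cfsg.Agent.Lib.Blocks Cfsg.Agent.Lib.Cores
open Cfsg.Agent.Lib.BlockHeights (irr_apply_one charDegree_irr_pos charDegree_trivIrr)
open scoped ComplexConjugate

universe u

variable {q : ℕ} [NeZero q]

local notation "ψ" => (ZMod.stdAddChar (N := q))

theorem conj_psi (k : ZMod q) : conj (ψ k) = ψ (-k) := by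
  rw [AddChar.map_neg_eq_conj]

theorem sum_psi (b : ZMod q) : ∑ x : ZMod q, ψ (x * b) = if b = 0 then (q : ℂ) else 0 := by
  rw [AddChar.sum_mulShift b (ZMod.isPrimitive_stdAddChar q), ZMod.card]
  split_ifs <;> simp

variable {G : Type u} [Group G] [Fintype G] {p d : ℕ} [Fact p.Prime]
variable (P : Sylow p G) (e0 : Multiplicative (ZMod q) ≃* (P : Subgroup G))

theorem exists_mult (χ : IrrCharacter G) (i : ZMod q) :
    ∃ m : ℕ, (q : ℂ) * m = ∑ k : ZMod q, (χ : G → ℂ) (gp P e0 k) * ψ (-(i * k)) := by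
  classical
  haveI := Fintype.ofFinite (P : Subgroup G)
  obtain ⟨m, hm⟩ := IsCharacter.exists_classInner_nat
    (IsCharacter.comp (irr_isCharacter χ) (P : Subgroup G).subtype)
    (IsIrrCharacter.isCharacter (isIrrCharacter_monoidHom
      ((AddChar.mulShift ψ i).toMonoidHom.comp e0.symm.toMonoidHom)))
  have hcard : Nat.card (P : Subgroup G) = q := by
    rw [← Nat.card_congr e0.toEquiv]
    simp
  rw [classInner, hcard] at hm
  refine ⟨m, ?_⟩
  rw [← hm, ← mul_assoc, mul_inv_cancel₀ (Nat.cast_ne_zero.2 (NeZero.ne q)), one_mul]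
  refine (Fintype.sum_equiv ((Multiplicative.ofAdd).trans e0.toEquiv) _ _ fun k => ?_).symm
  simp [gp, conj_psi, AddChar.mulShift_apply]

/-- The multiplicity of the `i`-th linear character of `P`. -/
noncomputable def mult (χ : IrrCharacter G) (i : ZMod q) : ℕ := (exists_mult P e0 χ i).choose

theorem mult_spec (χ : IrrCharacter G) (i : ZMod q) :
    (q : ℂ) * (mult P e0 χ i : ℕ) = ∑ k : ZMod q, (χ : G → ℂ) (gp P e0 k) * ψ (-(i * k)) :=
  (exists_mult P e0 χ i).choose_spec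

theorem value_eq (χ : IrrCharacter G) (k : ZMod q) :
    (χ : G → ℂ) (gp P e0 k) = ∑ i : ZMod q, (mult P e0 χ i : ℂ) * ψ (i * k) := by
  apply mul_left_cancel₀ (Nat.cast_ne_zero.2 (NeZero.ne q) : (q : ℂ) ≠ 0)
  rw [Finset.mul_sum]
  simp only [← mul_assoc, mult_spec, Finset.sum_mul]
  rw [Finset.sum_comm, Finset.sum_eq_single k]
  · simp only [mul_assoc, ← AddChar.map_add_eq_mul, neg_add_cancel, AddChar.map_zero_eq_one,
      Finset.sum_const, Finset.card_univ, ZMod.card, nsmul_eq_mul, mul_one]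
  · intro l _ hl
    simp only [mul_assoc, ← AddChar.map_add_eq_mul, ← Finset.mul_sum]
    have h : ∀ i : ZMod q, -(i * l) + i * k = i * (k - l) := fun i => by ring
    simp only [h, sum_psi, sub_eq_zero, if_neg (Ne.symm hl), mul_zero]
  · simp

theorem degree_eq (χ : IrrCharacter G) :
    (charDegree (χ : G → ℂ) : ℤ) = ∑ i : ZMod q, (mult P e0 χ i : ℤ) := by
  have h := value_eq P e0 χ 0
  rw [gp_zero, irr_apply_one] at h
  simp only [mul_zero, AddChar.map_zero_eq_one, mul_one] at h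
  exact_mod_cast h

theorem mult_mul_U (χ : IrrCharacter G) {r : ZMod q} (hr : r ∈ U P e0) (i : ZMod q) :
    mult P e0 χ (i * r) = mult P e0 χ i := by
  obtain ⟨s, hs, hsr⟩ := exists_inv_U P e0 hr
  have h : (q : ℂ) * (mult P e0 χ (i * r) : ℕ) = (q : ℂ) * (mult P e0 χ i : ℕ) := by
    rw [mult_spec, mult_spec]
    refine Finset.sum_nbij' (fun k => r * k) (fun k => s * k) (fun _ _ => Finset.mem_univ _)
      (fun _ _ => Finset.mem_univ _) (fun k _ => by rw [← mul_assoc, hsr, one_mul])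
      (fun k _ => by rw [← mul_assoc, mul_comm r s, hsr, one_mul]) (fun k _ => ?_)
    obtain ⟨c, hc⟩ := isConj_iff.1 ((isConj_gp P e0).2 ⟨r, hr, rfl⟩ :
      IsConj (gp P e0 k) (gp P e0 (r * k)))
    rw [← hc, irr_isClassFunction χ _ c, mul_assoc]
  exact_mod_cast mul_left_cancel₀ (Nat.cast_ne_zero.2 (NeZero.ne q) : (q : ℂ) ≠ 0) h

theorem mult_triv (i : ZMod q) : mult P e0 (trivIrr G) i = if i = 0 then 1 else 0 := by
  have h := mult_spec P e0 (trivIrr G) i
  simp only [trivIrr_apply, one_mul] at h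
  rw [show (fun k : ZMod q => ψ (-(i * k))) = fun k => ψ (k * (-i)) from
    funext fun k => by rw [mul_neg, mul_comm]] at h
  simp only [sum_psi, neg_eq_zero] at h
  split_ifs at h ⊢ with hi
  · have hq0 : (q : ℂ) ≠ 0 := Nat.cast_ne_zero.2 (NeZero.ne q)
    exact_mod_cast mul_left_cancel₀ hq0 (h.trans (mul_one _).symm)
  · have hq0 : (q : ℂ) ≠ 0 := Nat.cast_ne_zero.2 (NeZero.ne q)
    exact_mod_cast (mul_eq_zero.1 h).resolve_left hq0

/-- The sum of a character over the elements of order `p` in `P`. -/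
noncomputable def sval (d : ℕ) (χ : IrrCharacter G) : ℤ :=
  (p : ℤ) * ∑ i ∈ Finset.univ.filter (fun i : ZMod q => i * (d : ZMod q) = 0), (mult P e0 χ i : ℤ) -
    (charDegree (χ : G → ℂ) : ℤ)

include P e0 in
theorem indicator_L0 (hqd : q = p * d) (i : ZMod q) :
    1 + ∑ k ∈ W p d q, ψ (i * k) = if i * (d : ZMod q) = 0 then (p : ℂ) else 0 := by
  have hp := (Fact.out : p.Prime)
  have hinj : Set.InjOn (fun j : ℕ => (j : ZMod q) * (d : ZMod q)) (Finset.Ico 1 p) :=
    (image_eq_W P e0 hqd (d_ne_zero hqd hp.one_lt (NeZero.ne q)) (p_mul_d hqd)).2.2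
  rw [W, Finset.sum_image hinj]
  have h1 : ∀ j : ℕ, ψ (i * ((j : ZMod q) * (d : ZMod q))) = ψ (i * (d : ZMod q)) ^ j := fun j => by
    rw [← AddChar.map_nsmul_eq_pow, nsmul_eq_mul]
    congr 1
    ring
  simp only [h1]
  have h2 : 1 + ∑ j ∈ Finset.Ico 1 p, ψ (i * (d : ZMod q)) ^ j =
      ∑ j ∈ Finset.range p, ψ (i * (d : ZMod q)) ^ j := by
    rw [Finset.range_eq_Ico, Finset.sum_eq_sum_Ico_succ_bot hp.pos, pow_zero]
  rw [h2]
  split_ifs with h
  · simp [h]
  · rw [geom_sum_eq, ← AddChar.map_nsmul_eq_pow, nsmul_eq_mul,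
      show (p : ZMod q) * (i * (d : ZMod q)) = 0 by rw [mul_left_comm, p_mul_d hqd, mul_zero],
      AddChar.map_zero_eq_one, sub_self, zero_div]
    intro hc
    exact h (ZMod.injective_stdAddChar (hc.trans (AddChar.map_zero_eq_one _).symm))

theorem sval_eq (hqd : q = p * d) (χ : IrrCharacter G) :
    (sval P e0 d χ : ℂ) = ∑ k ∈ W p d q, (χ : G → ℂ) (gp P e0 k) := by
  have h1 : (charDegree (χ : G → ℂ) : ℂ) + ∑ k ∈ W p d q, (χ : G → ℂ) (gp P e0 k) =
      ∑ i : ZMod q, (mult P e0 χ i : ℂ) * (1 + ∑ k ∈ W p d q, ψ (i * k)) := by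
    simp only [value_eq P e0 χ, mul_add, mul_one, Finset.mul_sum, Finset.sum_add_distrib]
    rw [Finset.sum_comm]
    congr 1
    exact_mod_cast degree_eq P e0 χ
  simp only [indicator_L0 P e0 hqd, mul_ite, mul_zero, ← Finset.sum_filter, ← Finset.sum_mul] at h1
  rw [sval]
  push_cast
  linear_combination -h1

include P e0 in
/-- The exponents `i` with trivial restriction to the subgroup of order `p` number `d`. -/
theorem card_L0 (hqd : q = p * d) :
    (Finset.univ.filter (fun i : ZMod q => i * (d : ZMod q) = 0)).card = d := by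
  have h : ∑ i : ZMod q, (1 + ∑ k ∈ W p d q, ψ (i * k)) = (q : ℂ) := by
    rw [Finset.sum_add_distrib, Finset.sum_comm, Finset.sum_eq_zero (s := W p d q) fun k hk => ?_]
    · simp
    · rw [sum_psi, if_neg ((mem_W_iff hqd).1 hk).1]
  simp only [indicator_L0 P e0 hqd, ← Finset.sum_filter, Finset.sum_const, nsmul_eq_mul] at h
  have h' : (Finset.univ.filter (fun i : ZMod q => i * (d : ZMod q) = 0)).card * p = q := by
    exact_mod_cast h
  exact Nat.eq_of_mul_eq_mul_right (Fact.out : p.Prime).pos (h'.trans (hqd.trans (mul_comm p d)))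

/-- The average over the elements of order `p`. -/
theorem mean_eq (hqd : q = p * d) (χ : IrrCharacter G) :
    ((p : ℂ) - 1) * mean p χ = (sval P e0 d χ : ℂ) := by
  classical
  rw [sval_eq P e0 hqd χ]
  have hp := (Fact.out : p.Prime)
  set s := ∑ k ∈ W p d q, (χ : G → ℂ) (gp P e0 k)
  have hz : ∀ z ∈ ordP G p, ∑ j ∈ Finset.Ico 1 p, (χ : G → ℂ) (z ^ j) = s := by
    intro z hz
    obtain ⟨k, hk, c, rfl⟩ := exists_conj_W P e0 hqd (mem_ordP.1 hz)
    obtain ⟨himg, -, hinj⟩ := image_eq_W P e0 hqd ((mem_W_iff hqd).1 hk).1 ((mem_W_iff hqd).1 hk).2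
    show _ = ∑ k ∈ W p d q, (χ : G → ℂ) (gp P e0 k)
    rw [← himg, Finset.sum_image hinj]
    refine Finset.sum_congr rfl fun j _ => ?_
    rw [conj_pow, gp_pow, irr_isClassFunction χ _ c]
  have hj : ∀ j ∈ Finset.Ico 1 p, ∑ z ∈ ordP G p, (χ : G → ℂ) (z ^ j) =
      ∑ z ∈ ordP G p, (χ : G → ℂ) z := by
    intro j hj
    rw [Finset.mem_Ico] at hj
    have hc : Nat.Coprime p j := hp.coprime_iff_not_dvd.2 fun h =>
      absurd (Nat.le_of_dvd (by omega) h) (by omega)
    have hmaps : ∀ z ∈ ordP G p, z ^ j ∈ ordP G p := fun z hz => mem_ordP.2 (by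
      rw [Nat.Coprime.orderOf_pow (by rw [mem_ordP.1 hz]; exact hc), mem_ordP.1 hz])
    have hinj : Set.InjOn (fun z : G => z ^ j) (ordP G p) := by
      intro a ha b hb e
      obtain ⟨m, hm⟩ := exists_pow_eq_self_of_coprime (x := a) (n := j)
        (by rw [mem_ordP.1 ha]; exact hc.symm)
      obtain ⟨m', hm'⟩ := exists_pow_eq_self_of_coprime (x := b) (n := j)
        (by rw [mem_ordP.1 hb]; exact hc.symm)
      have h1 : a = b ^ (j * m) := by rw [pow_mul, ← show a ^ j = b ^ j from e, hm]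
      have h2 : b = a ^ (j * m') := by rw [pow_mul, show a ^ j = b ^ j from e, hm']
      have h3 : (b ^ (j * m)) ^ j = b ^ j := by rw [← h1]; exact e
      have h4 : ((b ^ (j * m)) ^ j) ^ m' = (b ^ j) ^ m' := by rw [h3]
      rw [hm', ← pow_mul, ← pow_mul, mul_comm (j * m) (j * m'), pow_mul, pow_mul b j m', hm'] at h4
      rw [h1]; exact h4
    exact Finset.sum_nbij (fun z => z ^ j) hmaps hinj
      (Finset.surjOn_of_injOn_of_card_le _ (fun z hz => hmaps z hz) hinj le_rfl) (fun z _ => rfl)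
  have h2 : ((p : ℂ) - 1) * ∑ z ∈ ordP G p, (χ : G → ℂ) z = ((ordP G p).card : ℂ) * s := by
    rw [← nsmul_eq_mul, ← Finset.sum_const, ← Finset.sum_congr rfl hz, Finset.sum_comm,
      Finset.sum_congr rfl hj, Finset.sum_const, Nat.card_Ico, nsmul_eq_mul,
      Nat.cast_sub hp.one_lt.le, Nat.cast_one]
  have hne : (ordP G p).Nonempty := ⟨gp P e0 (d : ZMod q), mem_ordP.2
    (orderOf_gp_eq P e0 (d_ne_zero hqd hp.one_lt (NeZero.ne q)) (p_mul_d hqd))⟩
  rw [mean, mul_left_comm, h2, ← mul_assoc,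
    inv_mul_cancel₀ (Nat.cast_ne_zero.2 (Finset.card_pos.2 hne).ne'), one_mul]

section Block

variable {M : Ideal AlgInt} [hMp : M.IsPrime] [Fintype (IrrCharacter G)]

open Classical in
/-- Column orthogonality on `P`. -/
theorem col (hM : IsPModular p M) {k l : ZMod q} (hk : k ≠ 0) (hl : l ≠ 0) :
    ∑ χ ∈ Finset.univ.filter (fun χ : IrrCharacter G => χ ∈ principalBlock M G),
      (χ : G → ℂ) (gp P e0 k) * conj ((χ : G → ℂ) (gp P e0 l)) =
      (q : ℂ) * ∑ r ∈ U P e0, if l = r * k then 1 else 0 := by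
  have hcard : Nat.card (P : Subgroup G) = q := by
    rw [← Nat.card_congr e0.toEquiv]
    simp
  obtain ⟨a, ha⟩ := P.2.exists_card_eq
  have hpp : ∀ k : ZMod q, ∃ n : ℕ, orderOf (gp P e0 k) = p ^ n := fun k => by
    obtain ⟨n, hn⟩ := IsPGroup.iff_orderOf.mp P.2 ⟨_, gp_mem P e0 k⟩
    exact ⟨n, (Subgroup.orderOf_mk _ _).symm.trans hn⟩
  have h := sum_principal_mul_conj hM (x := gp P e0 l) (x' := gp P e0 k) (hpp l) (hpp k)
    ((index_core P (cyclic P e0) (gp_mem P e0 l) (gp_ne_one P e0 hl)).trans ha)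
  rw [← Finset.sum_filter] at h
  rw [h]
  split_ifs with hc
  · obtain ⟨r, hr, hlr⟩ := (isConj_gp P e0).1 hc
    rw [Finset.sum_eq_single r (fun s hs hsr => if_neg fun e => hsr (U_cancel P e0 hs hr hk (e.symm.trans hlr)))
      (fun h' => absurd hr h'), if_pos hlr, mul_one, ← hcard, ha]
  · rw [Finset.sum_eq_zero fun r hr => if_neg fun e => hc ((isConj_gp P e0).2 ⟨r, hr, e⟩), mul_zero]

open Classical in
/-- The Gram matrix of the differences of multiplicities. -/
theorem gram (hM : IsPModular p M) {i j : ZMod q} (hi : i ≠ 0) (hj : j ≠ 0) :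
    ∑ χ ∈ Finset.univ.filter (fun χ : IrrCharacter G => χ ∈ principalBlock M G),
      ((mult P e0 χ i : ℤ) - (mult P e0 χ 0 : ℕ)) * ((mult P e0 χ j : ℤ) - (mult P e0 χ 0 : ℕ)) =
      ((U P e0).filter (fun r => i = j * r)).card + (U P e0).card := by
  set B := Finset.univ.filter (fun χ : IrrCharacter G => χ ∈ principalBlock M G)
  have hn : ∀ (χ : IrrCharacter G) (i : ZMod q), (q : ℂ) * ((((mult P e0 χ i : ℤ) - (mult P e0 χ 0 : ℕ)) : ℤ) : ℂ) =
      ∑ k : ZMod q, (χ : G → ℂ) (gp P e0 k) * (ψ (-(i * k)) - 1) := by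
    intro χ i
    push_cast
    rw [mul_sub, mult_spec, mult_spec]
    simp [mul_sub, Finset.sum_sub_distrib]
  set D : ℤ := ∑ χ ∈ B, ((mult P e0 χ i : ℤ) - (mult P e0 χ 0 : ℕ)) * ((mult P e0 χ j : ℤ) - (mult P e0 χ 0 : ℕ))
    with hD
  have hkl : ∀ k l : ZMod q, ∑ χ ∈ B, (χ : G → ℂ) (gp P e0 k) * (ψ (-(i * k)) - 1) *
      conj ((χ : G → ℂ) (gp P e0 l) * (ψ (-(j * l)) - 1)) =
      (ψ (-(i * k)) - 1) * (ψ (j * l) - 1) * ((q : ℂ) * ∑ r ∈ U P e0, if l = r * k then 1 else 0) := by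
    intro k l
    have e : ∀ χ : IrrCharacter G, (χ : G → ℂ) (gp P e0 k) * (ψ (-(i * k)) - 1) *
        conj ((χ : G → ℂ) (gp P e0 l) * (ψ (-(j * l)) - 1)) = (ψ (-(i * k)) - 1) * (ψ (j * l) - 1) *
          ((χ : G → ℂ) (gp P e0 k) * conj ((χ : G → ℂ) (gp P e0 l))) := by
      intro χ
      rw [map_mul, map_sub, map_one, conj_psi, neg_neg]
      ring
    simp only [e, ← Finset.mul_sum]
    by_cases hk : k = 0
    · simp [hk]
    by_cases hl : l = 0
    · simp [hl]
    rw [col P e0 hM hk hl]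
  have hmain : (q : ℂ) * (q : ℂ) * (D : ℂ) =
      (q : ℂ) * ∑ r ∈ U P e0, ∑ k : ZMod q, (ψ (-(i * k)) - 1) * (ψ (j * (r * k)) - 1) := by
    have h1 : (q : ℂ) * (q : ℂ) * (D : ℂ) = ∑ χ ∈ B,
        ((q : ℂ) * ((((mult P e0 χ i : ℤ) - (mult P e0 χ 0 : ℕ)) : ℤ) : ℂ)) *
        conj ((q : ℂ) * ((((mult P e0 χ j : ℤ) - (mult P e0 χ 0 : ℕ)) : ℤ) : ℂ)) := by
      rw [hD, Int.cast_sum, Finset.mul_sum]
      refine Finset.sum_congr rfl fun χ _ => ?_
      rw [map_mul, map_natCast, map_intCast, Int.cast_mul]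
      ring
    rw [h1]
    simp only [hn, map_sum, Finset.sum_mul_sum]
    rw [Finset.sum_comm]
    conv_rhs => rw [Finset.sum_comm, Finset.mul_sum]
    refine Finset.sum_congr rfl fun k _ => ?_
    rw [Finset.sum_comm]
    simp only [hkl]
    simp only [Finset.mul_sum, mul_ite, mul_one, mul_zero]
    rw [Finset.sum_comm]
    refine Finset.sum_congr rfl fun r _ => ?_
    rw [Finset.sum_ite_eq' Finset.univ (r * k), if_pos (Finset.mem_univ _)]
    ring
  have hr : ∀ r ∈ U P e0, ∑ k : ZMod q, (ψ (-(i * k)) - 1) * (ψ (j * (r * k)) - 1) =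
      (q : ℂ) * ((if i = j * r then 1 else 0) + 1) := by
    intro r hr
    have e : ∀ k : ZMod q, (ψ (-(i * k)) - 1) * (ψ (j * (r * k)) - 1) =
        ψ (k * (j * r - i)) - ψ (k * (-i)) - ψ (k * (j * r)) + 1 := by
      intro k
      rw [show k * (j * r - i) = -(i * k) + j * (r * k) by ring, AddChar.map_add_eq_mul,
        show k * (-i) = -(i * k) by ring, show k * (j * r) = j * (r * k) by ring]
      ring
    simp only [e, Finset.sum_add_distrib, Finset.sum_sub_distrib, sum_psi]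
    rw [if_neg (neg_ne_zero.2 hi), if_neg (show j * r ≠ 0 by rw [mul_comm]; exact U_mul_ne_zero P e0 hr hj)]
    simp only [sub_eq_zero, sub_zero, Finset.sum_const, Finset.card_univ, ZMod.card, nsmul_eq_mul, mul_one]
    by_cases h : i = j * r
    · rw [if_pos h.symm, if_pos h]; ring
    · rw [if_neg (Ne.symm h), if_neg h]; ring
  rw [Finset.sum_congr rfl hr, ← Finset.mul_sum, Finset.sum_add_distrib, Finset.sum_boole,
    Finset.sum_const, nsmul_eq_mul, mul_one] at hmain
  have hq0 : (q : ℂ) ≠ 0 := Nat.cast_ne_zero.2 (NeZero.ne q)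
  have hmain' := mul_left_cancel₀ hq0 (mul_left_cancel₀ hq0 ((mul_assoc _ _ _).symm.trans hmain))
  exact_mod_cast hmain'

open Classical in
/-- The same without the trivial character. -/
theorem gram_erase (hM : IsPModular p M) {i j : ZMod q} (hi : i ≠ 0) (hj : j ≠ 0) :
    ∑ χ ∈ (Finset.univ.filter (fun χ : IrrCharacter G => χ ∈ principalBlock M G)).erase (trivIrr G),
      ((mult P e0 χ i : ℤ) - (mult P e0 χ 0 : ℕ)) * ((mult P e0 χ j : ℤ) - (mult P e0 χ 0 : ℕ)) =
      ((U P e0).filter (fun r => i = j * r)).card + (U P e0).card - 1 := by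
  have ht : trivIrr G ∈ Finset.univ.filter (fun χ : IrrCharacter G => χ ∈ principalBlock M G) :=
    Finset.mem_filter.2 ⟨Finset.mem_univ _, self_mem_blockOf (M := M) (trivIrr G)⟩
  rw [Finset.sum_erase_eq_sub ht,
    gram P e0 hM hi hj]
  simp [mult_triv, hi, hj]

open Classical in
/-- The sum of the squares of the sums over elements of order `p`. -/
theorem sum_sval_sq (hM : IsPModular p M) (hqd : q = p * d) :
    ∑ χ ∈ Finset.univ.filter (fun χ : IrrCharacter G => χ ∈ principalBlock M G), sval P e0 d χ ^ 2 =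
      (q : ℤ) * (U P e0).card * (p - 1 : ℕ) := by
  set B := Finset.univ.filter (fun χ : IrrCharacter G => χ ∈ principalBlock M G)
  have h : ((∑ χ ∈ B, sval P e0 d χ ^ 2 : ℤ) : ℂ) = (((q : ℤ) * (U P e0).card * (p - 1 : ℕ) : ℤ) : ℂ) := by
    rw [Int.cast_sum]
    have e : ∀ χ : IrrCharacter G, ((sval P e0 d χ ^ 2 : ℤ) : ℂ) = ∑ k ∈ W p d q, ∑ l ∈ W p d q,
        (χ : G → ℂ) (gp P e0 k) * conj ((χ : G → ℂ) (gp P e0 l)) := by
      intro χ
      rw [← Finset.sum_mul_sum, ← map_sum, ← sval_eq P e0 hqd, map_intCast]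
      push_cast
      ring
    simp only [e]
    rw [Finset.sum_comm]
    have h1 : ∀ k ∈ W p d q, ∑ χ ∈ B, ∑ l ∈ W p d q,
        (χ : G → ℂ) (gp P e0 k) * conj ((χ : G → ℂ) (gp P e0 l)) = (q : ℂ) * (U P e0).card := by
      intro k hk
      rw [Finset.sum_comm, Finset.sum_congr rfl fun l hl =>
        col P e0 hM ((mem_W_iff hqd).1 hk).1 ((mem_W_iff hqd).1 hl).1, ← Finset.mul_sum,
        Finset.sum_comm, Finset.sum_congr rfl fun r hr => (Finset.sum_ite_eq' (W p d q) (r * k) _).trans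
          (if_pos (U_mul_mem_W P e0 hqd hr hk))]
      simp
    rw [Finset.sum_congr rfl h1, Finset.sum_const, card_W P e0 hqd, nsmul_eq_mul]
    push_cast
    ring
  exact_mod_cast h

end Block

end Cfsg.Agent.Lib.Characters.PairCount.Cyclic
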