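import Cfsg.Agent.Lib.Characters.PairCount.Core
import Cfsg.Agent.Lib.Blocks.PSolvable
import Cfsg.Agent.Lib.Harada.Hall
import Cfsg.Agent.Lib.Characters.PSolvableSmallDegree

/-!
# Pairs of elements of order `p` generating `p`-solvable groups
-/

set_option autoImplicit false
set_option linter.unusedSectionVars false
set_option linter.style.haveILetI false

namespace Cfsg.Agent.Lib.Characters.PairCount

open Cfsg Cfsg.Agent.Lib.Characters Cfsg.Agent.Lib.Blocks Cfsg.Agent.Lib.Cores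

universe u

variable {G : Type u} [Group G] [Finite G] {p : ℕ} [Fact p.Prime]

/-- `p`-subgroups are abelian when one Sylow subgroup is. -/
theorem comm_of_isPGroup (P : Sylow p G) (hab : IsMulCommutative ↥(P : Subgroup G)) (X : Subgroup G)
    (hX : IsPGroup p X) : ∀ a ∈ X, ∀ b ∈ X, a * b = b * a := by
  obtain ⟨Q, hQ⟩ := hX.exists_le_sylow
  obtain ⟨g, hg⟩ := MulAction.exists_smul_eq G P Q
  intro a ha b hb
  have conv : ∀ x ∈ (Q : Subgroup G), g⁻¹ * x * g ∈ (P : Subgroup G) := by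
    intro x hx
    have hx' : x ∈ ((g • P : Sylow p G) : Subgroup G) := hg ▸ hx
    rw [Sylow.smul_def, Sylow.pointwise_smul_def] at hx'
    obtain ⟨y, hy, rfl⟩ := hx'
    have : (y : G) ∈ (P : Subgroup G) := hy
    simpa [mul_assoc] using this
  have h := congrArg (fun x : (P : Subgroup G) => g * (x : G) * g⁻¹)
    (mul_comm' (⟨_, conv a (hQ ha)⟩ : (P : Subgroup G)) ⟨_, conv b (hQ hb)⟩)
  simpa [mul_assoc] using h

theorem pairOK_of_isPSolvable (P : Sylow p G) (hab : IsMulCommutative ↥(P : Subgroup G))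
    (hc : ∀ x y : G, orderOf x = p → orderOf y = p →
      IsPSolvable p ↥(Subgroup.closure ({x, y} : Set G))) : PairOK p G := by
  classical
  intro u v hu hv
  haveI hKn : (pPrimeCore p ↥(Subgroup.closure ({u, v} : Set G))).Normal := (pPrimeCore_mem p _).1
  refine ⟨pPrimeCore p ↥(Subgroup.closure ({u, v} : Set G)), hKn, fun k hk h => ?_, fun a => ?_⟩
  · have e : orderOf (⟨k, hk⟩ : pPrimeCore p ↥(Subgroup.closure ({u, v} : Set G))) = orderOf k :=
      (Subgroup.orderOf_coe _).symm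
    exact not_dvd_card_pPrimeCore (h.trans (e ▸ orderOf_dvd_natCard _))
  have hsol : IsPSolvable p (↥(Subgroup.closure ({u, v} : Set G)) ⧸ pPrimeCore p ↥(Subgroup.closure ({u, v} : Set G))) := isPSolvable_quotient_of (pPrimeCore p ↥(Subgroup.closure ({u, v} : Set G))) (hc u v hu hv)
  have hcore : pPrimeCore p (↥(Subgroup.closure ({u, v} : Set G)) ⧸ pPrimeCore p ↥(Subgroup.closure ({u, v} : Set G))) = ⊥ := pPrimeCore_quotient_pPrimeCore p ↥(Subgroup.closure ({u, v} : Set G))
  have hcen := centralizer_pCore_le_of_isPSolvable p hsol hcore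
  obtain ⟨S⟩ : Nonempty (Sylow p ↥(Subgroup.closure ({u, v} : Set G))) := inferInstance
  set T : Sylow p (↥(Subgroup.closure ({u, v} : Set G)) ⧸ pPrimeCore p ↥(Subgroup.closure ({u, v} : Set G))) := S.mapSurjective (QuotientGroup.mk'_surjective (pPrimeCore p ↥(Subgroup.closure ({u, v} : Set G))))
  have hSab : ∀ a ∈ (S : Subgroup ↥(Subgroup.closure ({u, v} : Set G))), ∀ b ∈ (S : Subgroup ↥(Subgroup.closure ({u, v} : Set G))), a * b = b * a := fun a ha b hb =>
    Subtype.ext (comm_of_isPGroup P hab ((S : Subgroup ↥(Subgroup.closure ({u, v} : Set G))).map (Subgroup.closure ({u, v} : Set G)).subtype)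
      (S.2.map _) a ⟨a, ha, rfl⟩ b ⟨b, hb, rfl⟩)
  have hTab : ∀ a ∈ (T : Subgroup (↥(Subgroup.closure ({u, v} : Set G)) ⧸ pPrimeCore p ↥(Subgroup.closure ({u, v} : Set G)))), ∀ b ∈ (T : Subgroup (↥(Subgroup.closure ({u, v} : Set G)) ⧸ pPrimeCore p ↥(Subgroup.closure ({u, v} : Set G)))), a * b = b * a := by
    rintro - ⟨a, ha, rfl⟩ - ⟨b, hb, rfl⟩
    rw [← map_mul, ← map_mul, hSab a ha b hb]
  have hcp : pCore p (↥(Subgroup.closure ({u, v} : Set G)) ⧸ pPrimeCore p ↥(Subgroup.closure ({u, v} : Set G))) ≤ (T : Subgroup (↥(Subgroup.closure ({u, v} : Set G)) ⧸ pPrimeCore p ↥(Subgroup.closure ({u, v} : Set G)))) := pCore_le_sylow T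
  have hTeq : (T : Subgroup (↥(Subgroup.closure ({u, v} : Set G)) ⧸ pPrimeCore p ↥(Subgroup.closure ({u, v} : Set G)))) = pCore p (↥(Subgroup.closure ({u, v} : Set G)) ⧸ pPrimeCore p ↥(Subgroup.closure ({u, v} : Set G))) := le_antisymm (fun a ha => hcen
    (Subgroup.mem_centralizer_iff.2 fun b hb => (hTab a ha b (hcp hb)).symm)) hcp
  haveI hTn : (T : Subgroup (↥(Subgroup.closure ({u, v} : Set G)) ⧸ pPrimeCore p ↥(Subgroup.closure ({u, v} : Set G)))).Normal := by rw [hTeq]; infer_instance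
  have hmem : ∀ x : (↥(Subgroup.closure ({u, v} : Set G)) ⧸ pPrimeCore p ↥(Subgroup.closure ({u, v} : Set G))), x ^ p = 1 → x ∈ (T : Subgroup (↥(Subgroup.closure ({u, v} : Set G)) ⧸ pPrimeCore p ↥(Subgroup.closure ({u, v} : Set G)))) := by
    intro x hx
    have hX : IsPGroup p (Subgroup.zpowers x) := by
      intro y
      obtain ⟨k, hk⟩ := Subgroup.mem_zpowers_iff.1 y.2
      refine ⟨1, Subtype.ext ?_⟩
      rw [SubgroupClass.coe_pow, OneMemClass.coe_one]
      rw [← hk, pow_one, ← zpow_natCast, ← zpow_mul, mul_comm, zpow_mul, zpow_natCast, hx, one_zpow]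
    exact (T.3 (IsPGroup.to_sup_of_normal_left T.2 hX) le_sup_left) ▸ Subgroup.mem_sup_right (Subgroup.mem_zpowers x)
  -- the elements killed by `p` form the whole quotient
  have hgen : ∀ y : ↥(Subgroup.closure ({u, v} : Set G)), (QuotientGroup.mk' (pPrimeCore p ↥(Subgroup.closure ({u, v} : Set G))) y) ^ p = 1 ∧ QuotientGroup.mk' (pPrimeCore p ↥(Subgroup.closure ({u, v} : Set G))) y ∈ (T : Subgroup (↥(Subgroup.closure ({u, v} : Set G)) ⧸ pPrimeCore p ↥(Subgroup.closure ({u, v} : Set G)))) := by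
    rintro ⟨y, hy⟩
    induction hy using Subgroup.closure_induction with
    | mem x hx =>
      have hxp : x ^ p = 1 := by
        rcases hx with rfl | rfl
        · rw [← hu]; exact pow_orderOf_eq_one _
        · rw [← hv]; exact pow_orderOf_eq_one _
      have h1 : (QuotientGroup.mk' (pPrimeCore p ↥(Subgroup.closure ({u, v} : Set G))) (⟨x, Subgroup.subset_closure hx⟩ : ↥(Subgroup.closure ({u, v} : Set G)))) ^ p = 1 := by
        rw [← map_pow, show (⟨x, Subgroup.subset_closure hx⟩ : ↥(Subgroup.closure ({u, v} : Set G))) ^ p = 1 from Subtype.ext hxp, map_one]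
      exact ⟨h1, hmem _ h1⟩
    | one => exact ⟨by rw [show (⟨1, _⟩ : ↥(Subgroup.closure ({u, v} : Set G))) = 1 from rfl, map_one, one_pow],
        by rw [show (⟨1, _⟩ : ↥(Subgroup.closure ({u, v} : Set G))) = 1 from rfl, map_one]; exact one_mem _⟩
    | mul x y hx hy ihx ihy =>
      rw [show (⟨x * y, mul_mem hx hy⟩ : ↥(Subgroup.closure ({u, v} : Set G))) = ⟨x, hx⟩ * ⟨y, hy⟩ from rfl, map_mul]
      refine ⟨?_, mul_mem ihx.2 ihy.2⟩
      rw [(show Commute _ _ from hTab _ ihx.2 _ ihy.2).mul_pow, ihx.1, ihy.1, one_mul]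
    | inv x hx ih =>
      rw [show (⟨x⁻¹, inv_mem hx⟩ : ↥(Subgroup.closure ({u, v} : Set G))) = (⟨x, hx⟩ : ↥(Subgroup.closure ({u, v} : Set G)))⁻¹ from rfl, map_inv]
      exact ⟨by rw [inv_pow, ih.1, inv_one], inv_mem ih.2⟩
  have h := (hgen a).1
  rw [← map_pow] at h
  exact (QuotientGroup.eq_one_iff (a ^ p)).1 h

/-- A normal `p`-complement makes the `p'`-core of `p`-power index, equal to the Sylow order. -/
theorem index_of_complement {K : Type u} [Group K] [Finite K] (h : HasNormalPComplement p K) :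
    ∃ S : Sylow p K, (pPrimeCore p K).index = Nat.card (S : Subgroup K) := by
  obtain ⟨S, N, hN, hcomp⟩ := h
  refine ⟨S, ?_⟩
  have hidx : N.index = Nat.card (S : Subgroup K) := hcomp.symm.index_eq_card
  have hN' : (Nat.card N).Coprime p := by
    obtain ⟨k, hk⟩ := S.2.exists_card_eq
    refine ((Fact.out : p.Prime).coprime_iff_not_dvd.2 fun hd => ?_).symm
    have h1 : p ^ (k + 1) ∣ Nat.card K := by
      rw [← hcomp.card_mul, hk, pow_succ', mul_comm]
      exact mul_dvd_mul dvd_rfl hd |>.trans (by rw [mul_comm])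
    have h2 := S.card_eq_multiplicity
    rw [hk] at h2
    have h3 := (Fact.out : p.Prime).pow_dvd_iff_le_factorization Nat.card_pos.ne' |>.1 h1
    have h4 := Nat.pow_right_injective (Fact.out : p.Prime).two_le h2
    omega
  have hle : N ≤ pPrimeCore p K := le_pPrimeCore hN hN'
  have hd : (pPrimeCore p K).index ∣ Nat.card (S : Subgroup K) :=
    hidx ▸ Subgroup.index_dvd_of_le hle
  refine Nat.dvd_antisymm hd ?_
  have h1 : Nat.card (S : Subgroup K) ∣ Nat.card (pPrimeCore p K) * (pPrimeCore p K).index := by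
    rw [Subgroup.card_mul_index]; exact Subgroup.card_subgroup_dvd_card _
  refine Nat.Coprime.dvd_of_dvd_mul_left ?_ h1
  obtain ⟨k, hk⟩ := S.2.exists_card_eq
  rw [hk]
  exact ((Fact.out : p.Prime).coprime_iff_not_dvd.2 not_dvd_card_pPrimeCore).pow_left k

end Cfsg.Agent.Lib.Characters.PairCount
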