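import Cfsg.Agent.Lib.Characters.PairCount.CyclicChars
import Cfsg.Agent.S1951

/-!
# A simple group with cyclic Sylow subgroup has two elements of order `p` generating a
non-`p`-solvable group
-/

set_option autoImplicit false
set_option linter.unusedSectionVars false
set_option linter.style.haveILetI false

namespace Cfsg.Agent.Lib.Characters.PairCount.Cyclic

open Cfsg Cfsg.Agent.Lib.Characters Cfsg.Agent.Lib.Blocks Cfsg.Agent.Lib.Cores
open Cfsg.Agent.Lib.BlockHeights (irr_apply_one charDegree_irr_pos charDegree_trivIrr)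
open scoped ComplexConjugate

universe u v

/-- Integer vectors of norm two with pairwise inner product one: three of them cannot share a
nonzero coordinate at which a fourth vanishes. -/
theorem no_four {ι : Type v} [DecidableEq ι] (S : Finset ι) {c : ι} (hc : c ∈ S)
    (v : Fin 3 → ι → ℤ) (w : ι → ℤ) (hv : ∀ k, ∑ i ∈ S, v k i * v k i = 2)
    (hw : ∑ i ∈ S, w i * w i = 2) (hvv : ∀ k l, k ≠ l → ∑ i ∈ S, v k i * v l i = 1)
    (hvw : ∀ k, ∑ i ∈ S, v k i * w i = 1) {s : ℤ} (hs : ∀ k, v k c = s) (hs2 : s * s = 1)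
    (hw0 : w c = 0) : False := by
  have hsupp : ∀ k, ∃ i ∈ S.erase c, v k i * v k i = 1 ∧ ∀ j ∈ S.erase c, j ≠ i → v k j = 0 := by
    intro k
    have h := hv k
    rw [← Finset.add_sum_erase _ _ hc, hs, hs2] at h
    obtain ⟨i, hi, hne⟩ := Finset.exists_ne_zero_of_sum_ne_zero
      (show ∑ i ∈ S.erase c, v k i * v k i ≠ 0 by omega)
    have h1 := Finset.add_sum_erase (S.erase c) (fun i => v k i * v k i) hi
    have h2 : 0 ≤ ∑ j ∈ (S.erase c).erase i, v k j * v k j :=
      Finset.sum_nonneg fun j _ => mul_self_nonneg _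
    have h3 : 0 < v k i * v k i := lt_of_le_of_ne (mul_self_nonneg _) (Ne.symm hne)
    refine ⟨i, hi, by omega, fun j hj hji => ?_⟩
    have h4 := (Finset.sum_eq_zero_iff_of_nonneg fun j _ => mul_self_nonneg (v k j)).1
      (show ∑ j ∈ (S.erase c).erase i, v k j * v k j = 0 by omega) j (Finset.mem_erase.2 ⟨hji, hj⟩)
    exact mul_self_eq_zero.1 h4
  choose f hf hf1 hf0 using hsupp
  have hinner : ∀ k (u : ι → ℤ), ∑ i ∈ S, v k i * u i = s * u c + v k (f k) * u (f k) := by
    intro k u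
    rw [← Finset.add_sum_erase _ _ hc, hs, Finset.sum_eq_single (f k)
      (fun j hj hji => by rw [hf0 k j hj hji, zero_mul]) (fun h => absurd (hf k) h)]
  have hinj : Function.Injective f := by
    intro k l e
    by_contra hkl
    have h := hvv k l hkl
    rw [hinner k, hs, hs2, e] at h
    have h2 : v l (f l) ≠ 0 := fun h0 => by have := hf1 l; rw [h0] at this; omega
    have h3 : v k (f l) ≠ 0 := fun h0 => by have := hf1 k; rw [e, h0] at this; omega
    exact mul_ne_zero h3 h2 (by omega)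
  have hwne : ∀ k, 1 ≤ w (f k) * w (f k) := by
    intro k
    have h := hvw k
    rw [hinner k, hw0, mul_zero, zero_add] at h
    rcases eq_or_ne (w (f k)) 0 with h0 | h0
    · rw [h0, mul_zero] at h; omega
    · have := mul_self_pos.2 h0; omega
  have h3 : ∑ i ∈ Finset.univ.image f, w i * w i ≤ ∑ i ∈ S, w i * w i :=
    Finset.sum_le_sum_of_subset_of_nonneg (fun i hi => by
      obtain ⟨k, -, rfl⟩ := Finset.mem_image.1 hi
      exact Finset.mem_of_mem_erase (hf k)) (fun i _ _ => mul_self_nonneg _)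
  rw [Finset.sum_image (fun a _ b _ e => hinj e), hw] at h3
  have h4 : (3 : ℤ) ≤ ∑ k : Fin 3, w (f k) * w (f k) := by
    calc (3 : ℤ) = ∑ _k : Fin 3, (1 : ℤ) := by simp
      _ ≤ _ := Finset.sum_le_sum fun k _ => hwne k
  omega

theorem sep_three {α : Type v} {R : α → α → Prop} (hR : ∀ a b, R a b → R b a) {a b c : α}
    (h1 : ¬ R b a) (h2 : ¬ R c a) (h3 : ¬ R c b) :
    ∀ k l : Fin 3, k ≠ l → ¬ R (![a, b, c] k) (![a, b, c] l) := by
  intro k l hkl
  fin_cases k <;> fin_cases l <;>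
    first
      | exact absurd rfl hkl
      | exact h1
      | exact h2
      | exact h3
      | exact fun h => h1 (hR _ _ h)
      | exact fun h => h2 (hR _ _ h)
      | exact fun h => h3 (hR _ _ h)

section Bound

variable {q : ℕ} [NeZero q] {G : Type u} [Group G] [Fintype G] {p d : ℕ} [Fact p.Prime]
variable (P : Sylow p G) (e0 : Multiplicative (ZMod q) ≃* (P : Subgroup G))
variable {M : Ideal AlgInt} [hMp : M.IsPrime] [Fintype (IrrCharacter G)]

set_option maxHeartbeats 1600000 in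
open Classical in
/-- The degree dominates the average value on the elements of order `p`. -/
theorem bound [IsSimpleGroup G] (hM : IsPModular p M) {a : ℕ} (hqd : q = p * d) (hqa : q = p ^ (a + 1))
    (he2 : 2 ≤ (U P e0).card) {χ : IrrCharacter G}
    (hχ : χ ∈ (Finset.univ.filter (fun χ : IrrCharacter G => χ ∈ principalBlock M G)).erase (trivIrr G))
    (hpos : 0 < sval P e0 d χ) :
    5 * sval P e0 d χ ≤ 2 * ((p : ℤ) - 1) * (charDegree (χ : G → ℂ) : ℤ) := by
  have hp := (Fact.out : p.Prime)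
  set B := Finset.univ.filter (fun χ : IrrCharacter G => χ ∈ principalBlock M G) with hB
  set e := (U P e0).card with he
  set m := fun i => (mult P e0 χ i : ℤ) with hm
  set L := Finset.univ.filter (fun i : ZMod q => i * (d : ZMod q) = 0) with hL
  set M1 := ∑ i ∈ Finset.univ.filter (fun i : ZMod q => ¬ i * (d : ZMod q) = 0), m i with hM1
  have hd0 := d_ne_zero hqd hp.one_lt (NeZero.ne q)
  have hep : e ≤ p - 1 := card_U_le P e0 hqd
  have hp3 : 3 ≤ p := by omega
  have hX : (charDegree (χ : G → ℂ) : ℤ) = ∑ i ∈ L, m i + M1 := by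
    rw [degree_eq P e0 χ, hM1, hL, Finset.sum_filter_add_sum_filter_not]
  have hs : sval P e0 d χ = ((p : ℤ) - 1) * ∑ i ∈ L, m i - M1 := by
    simp only [sval]
    rw [← hL, hX]
    ring
  suffices h : 3 * sval P e0 d χ ≤ 2 * (p : ℤ) * M1 by
    rw [hX]; rw [hs] at h ⊢; nlinarith [h]
  -- orbits
  set orb := fun i : ZMod q => (U P e0).image (fun r => i * r) with horb
  have horbcard : ∀ i : ZMod q, i ≠ 0 → (orb i).card = e := fun i hi =>
    Finset.card_image_of_injOn fun r hr r' hr' h => U_cancel P e0 hr hr' hi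
      (by rw [mul_comm r i, mul_comm r' i]; exact h)
  have horbm : ∀ i : ZMod q, ∀ j ∈ orb i, mult P e0 χ j = mult P e0 χ i := by
    intro i j hj
    obtain ⟨r, hr, rfl⟩ := Finset.mem_image.1 hj
    exact mult_mul_U P e0 χ hr i
  have horbsymm : ∀ i j : ZMod q, i ∈ orb j → j ∈ orb i := by
    intro i j h
    obtain ⟨r, hr, rfl⟩ := Finset.mem_image.1 h
    obtain ⟨s, hs, hsr⟩ := exists_inv_U P e0 hr
    exact Finset.mem_image.2 ⟨s, hs, by rw [mul_assoc, mul_comm r s, hsr, mul_one]⟩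
  have horbself : ∀ i : ZMod q, i ∈ orb i := fun i =>
    Finset.mem_image.2 ⟨1, one_mem_U P e0, mul_one i⟩
  have hM1e : (e : ℤ) ≤ M1 := by
    obtain ⟨i, hi, hmi⟩ : ∃ i : ZMod q, ¬ i * (d : ZMod q) = 0 ∧ mult P e0 χ i ≠ 0 := by
      by_contra hc
      push_neg at hc
      have h1 : (χ : G → ℂ) (gp P e0 (d : ZMod q)) = (χ : G → ℂ) 1 := by
        rw [← gp_zero P e0, value_eq, value_eq]
        refine Finset.sum_congr rfl fun i _ => ?_
        by_cases hi : i * (d : ZMod q) = 0
        · rw [hi, mul_zero]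
        · rw [hc i hi]; simp
      have hne : (χ : G → ℂ) ≠ fun _ => 1 := fun h => (Finset.mem_erase.1 hχ).1 (Subtype.ext h)
      exact gp_ne_one P e0 hd0 (IsCharacter.eq_one_of_isSimpleGroup (irr_isCharacter χ)
        (IsIrrCharacter.exists_ne_apply_one χ.2 hne) h1)
    have hi0 : i ≠ 0 := fun h => hi (by rw [h, zero_mul])
    have hsub : orb i ⊆ Finset.univ.filter (fun i : ZMod q => ¬ i * (d : ZMod q) = 0) := by
      intro j hj
      obtain ⟨r, hr, rfl⟩ := Finset.mem_image.1 hj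
      rw [Finset.mem_filter]
      exact ⟨Finset.mem_univ _, by
        rw [mul_comm i r, mul_assoc]; exact U_mul_ne_zero P e0 hr hi⟩
    refine le_trans ?_ (Finset.sum_le_sum_of_subset_of_nonneg hsub fun j _ _ => Int.natCast_nonneg _)
    rw [← horbcard i hi0, Finset.card_eq_sum_ones]
    push_cast
    refine Finset.sum_le_sum fun j hj => ?_
    have := horbm i j hj
    show (1 : ℤ) ≤ (mult P e0 χ j : ℤ)
    omega
  have hs2 : sval P e0 d χ ^ 2 + ((p : ℤ) - 1) ^ 2 ≤ ((p : ℤ) - 1) * q * e := by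
    have htot := sum_sval_sq P e0 hM hqd
    rw [← Finset.add_sum_erase B _ (Finset.mem_filter.2 ⟨Finset.mem_univ _, self_mem_blockOf (M := M) (trivIrr G)⟩)] at htot
    have h1 := Finset.single_le_sum (f := fun χ => sval P e0 d χ ^ 2) (fun _ _ => sq_nonneg _) hχ
    have ht : sval P e0 d (trivIrr G) = (p : ℤ) - 1 := by
      simp [sval, mult_triv, charDegree_trivIrr, Finset.sum_ite_eq']
    rw [ht, Nat.cast_sub hp.one_lt.le, Nat.cast_one] at htot
    nlinarith
  have hp3' : (3 : ℤ) ≤ p := by exact_mod_cast hp3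
  have he2' : (2 : ℤ) ≤ e := by exact_mod_cast he2
  have hep' : (e : ℤ) ≤ (p : ℤ) - 1 := by omega
  rcases Nat.eq_zero_or_pos a with rfl | ha
  · -- `|P| = p`
    have hqp : (q : ℤ) = p := by rw [hqa]; simp
    rw [hqp] at hs2
    have h1 : (3 * sval P e0 d χ) ^ 2 ≤ (2 * (p : ℤ) * e) ^ 2 := by
      nlinarith [mul_self_nonneg (8 * (p : ℤ) * e - 9 * ((p : ℤ) - 1)), sq_nonneg ((p : ℤ) - 1)]
    have h2 : 3 * sval P e0 d χ ≤ 2 * (p : ℤ) * e := by
      nlinarith [show (0 : ℤ) ≤ 2 * (p : ℤ) * e by positivity]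
    nlinarith
  have hpq : p * p ≤ q := by
    rw [hqa, ← sq]
    exact Nat.pow_le_pow_right hp.pos (by omega)
  by_cases h39 : p = 3 ∧ q = 9
  · obtain ⟨rfl, hq9⟩ := h39
    have hee : e = 2 := by omega
    -- the value at an element of order three is an integer
    have hval : ((sval P e0 d χ : ℤ) : ℂ) = 2 * (χ : G → ℂ) (gp P e0 (d : ZMod q)) := by
      rw [sval_eq P e0 hqd]
      have himg : (U P e0).image (fun r => r * (d : ZMod q)) = W 3 d q := by
        refine Finset.eq_of_subset_of_card_le (fun k hk => ?_) ?_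
        · obtain ⟨r, hr, rfl⟩ := Finset.mem_image.1 hk
          exact U_mul_mem_W P e0 hqd hr ((mem_W_iff hqd).2 ⟨hd0, p_mul_d hqd⟩)
        · rw [Finset.card_image_of_injOn (fun r hr r' hr' h => U_cancel P e0 hr hr' hd0 h),
            card_W P e0 hqd, ← he, hee]
      rw [← himg, Finset.sum_image (fun r hr r' hr' h => U_cancel P e0 hr hr' hd0 h),
        Finset.sum_congr rfl (g := fun _ => (χ : G → ℂ) (gp P e0 (d : ZMod q))) fun r hr => ?_,
        Finset.sum_const, ← he, hee, nsmul_eq_mul]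
      · push_cast; ring
      · obtain ⟨c, hc⟩ := isConj_iff.1 ((isConj_gp P e0).2 ⟨r, hr, rfl⟩ :
          IsConj (gp P e0 (d : ZMod q)) (gp P e0 (r * (d : ZMod q))))
        rw [← hc, irr_isClassFunction χ _ c]
    obtain ⟨b, hb⟩ := RealVector.exists_int_of_isIntegral (q := ((sval P e0 d χ : ℤ) : ℚ) / 2) (by
      have h : (((((sval P e0 d χ : ℤ) : ℚ) / 2 : ℚ)) : ℂ) = (χ : G → ℂ) (gp P e0 (d : ZMod q)) := by
        push_cast; rw [hval]; ring
      rw [h]; exact IsCharacter.isIntegral (irr_isCharacter χ) _)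
    have hb' : sval P e0 d χ = 2 * b := by
      have : ((sval P e0 d χ : ℤ) : ℚ) = 2 * (b : ℚ) := by rw [← hb]; ring
      exact_mod_cast this
    have hq9' : (q : ℤ) = 9 := by exact_mod_cast hq9
    rw [hb', hq9', hee] at hs2
    rw [hb']
    have : b ≤ 2 := by push_cast at hs2; nlinarith
    rw [hee] at hM1e
    push_cast at hM1e ⊢
    omega
  have h5 : 5 * e + 1 ≤ q := by
    rcases Nat.lt_or_ge p 5 with h | h
    · have hp' : p = 3 := by
        rcases (show p = 3 ∨ p = 4 by omega) with h' | h'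
        · exact h'
        · rw [h'] at hp; exact absurd hp (by norm_num)
      subst hp'
      have : 2 ≤ a := by
        by_contra hc
        exact h39 ⟨rfl, by rw [hqa, show a = 1 by omega]; norm_num⟩
      have : 3 ^ 3 ≤ q := hqa ▸ Nat.pow_le_pow_right (by norm_num) (by omega)
      omega
    · nlinarith
  have hqcard : (Finset.univ : Finset (ZMod q)).card = q := ZMod.card q
  -- Gram
  set n := fun (χ : IrrCharacter G) (i : ZMod q) =>
    ((mult P e0 χ i : ℤ) - (mult P e0 χ 0 : ℕ)) with hn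
  have hgram : ∀ i j : ZMod q, i ≠ 0 → j ≠ 0 → ∑ χ ∈ B.erase (trivIrr G), n χ i * n χ j =
      (if i ∈ orb j then 1 else 0) + (e : ℤ) - 1 := by
    intro i j hi hj
    rw [gram_erase P e0 hM hi hj]
    congr 2
    split_ifs with h
    · obtain ⟨r, hr, hri⟩ := Finset.mem_image.1 h
      rw [Finset.card_eq_one.2 ⟨r, ?_⟩]
      · norm_num
      ext s
      simp only [Finset.mem_filter, Finset.mem_singleton]
      refine ⟨fun hs => U_cancel P e0 hs.1 hr hj ?_, fun h => h ▸ ⟨hr, hri.symm⟩⟩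
      rw [mul_comm s j, mul_comm r j, ← hs.2, hri]
    · rw [Finset.filter_eq_empty_iff.2 fun r hr hri => h (Finset.mem_image.2 ⟨r, hr, hri.symm⟩)]
      simp
  by_cases hsmall : ∃ i0 : ZMod q, i0 ≠ 0 ∧ ∀ j, j ≠ 0 → j ∉ orb i0 → mult P e0 χ j = 0
  · obtain ⟨i0, hi0, hzero⟩ := hsmall
    have hm0 : ∑ i ∈ L, m i = (mult P e0 χ 0 : ℤ) := by
      rw [Finset.sum_eq_single_of_mem 0 (show (0 : ZMod q) ∈ L from Finset.mem_filter.2 ⟨Finset.mem_univ _, zero_mul _⟩)]
      intro j hj hj0
      have hj' := (Finset.mem_filter.1 hj).2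
      show (mult P e0 χ j : ℤ) = 0
      rw [hzero j hj0 ?_, Nat.cast_zero]
      intro hjo
      -- otherwise all multiplicities outside `L` vanish
      have : M1 = 0 := Finset.sum_eq_zero fun k hk => by
        show (mult P e0 χ k : ℤ) = 0
        have hk' := (Finset.mem_filter.1 hk).2
        rw [hzero k (fun h => hk' (by rw [h, zero_mul])) ?_, Nat.cast_zero]
        intro hko
        obtain ⟨r, hr, rfl⟩ := Finset.mem_image.1 hjo
        obtain ⟨s, hs', rfl⟩ := Finset.mem_image.1 hko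
        obtain ⟨t, -, htr⟩ := exists_inv_U P e0 hr
        refine hk' ?_
        calc i0 * s * (d : ZMod q) = (t * r) * i0 * s * (d : ZMod q) := by rw [htr, one_mul]
          _ = t * s * (i0 * r * (d : ZMod q)) := by ring
          _ = 0 := by rw [hj', mul_zero]
      omega
    obtain ⟨j, hj⟩ : (Finset.univ \ insert (0 : ZMod q) (orb i0)).Nonempty := by
      rw [← Finset.card_pos, Finset.card_sdiff_of_subset (Finset.subset_univ _), hqcard]
      have := Finset.card_insert_le (0 : ZMod q) (orb i0)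
      rw [horbcard i0 hi0] at this
      omega
    simp only [Finset.mem_sdiff, Finset.mem_univ, true_and, Finset.mem_insert, not_or] at hj
    have hsq : (mult P e0 χ 0 : ℤ) ^ 2 ≤ e := by
      have h1 := Finset.single_le_sum (f := fun χ => n χ j * n χ j) (fun _ _ => mul_self_nonneg _) hχ
      rw [hgram j j hj.1 hj.1, if_pos (horbself j)] at h1
      simp only [hn, hzero j hj.1 hj.2] at h1
      push_cast at h1
      nlinarith
    have h3 : 3 * (mult P e0 χ 0 : ℤ) ≤ 2 * e := by
      rcases le_or_gt (mult P e0 χ 0 : ℤ) 1 with h | h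
      · omega
      · have : 2 * (mult P e0 χ 0 : ℤ) ≤ (mult P e0 χ 0 : ℤ) ^ 2 := by nlinarith only [h]
        linarith
    rw [hs, hm0]
    have h4 := mul_le_mul_of_nonneg_left h3 (show (0 : ℤ) ≤ (p : ℤ) - 1 by linarith)
    nlinarith only [h4, hM1e, hp3', he2']
  by_cases hbig : ∃ i0 : ZMod q, i0 ≠ 0 ∧ ∀ j, j ≠ 0 → j ∉ orb i0 → mult P e0 χ j ≠ 0
  · obtain ⟨i0, hi0, hne⟩ := hbig
    set S := Finset.univ.filter (fun i : ZMod q => ¬ i * (d : ZMod q) = 0) with hS
    have hScard : (S.card : ℤ) = (q : ℤ) - d := by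
      have h := Finset.card_filter_add_card_filter_not (s := (Finset.univ : Finset (ZMod q)))
        (fun i => i * (d : ZMod q) = 0)
      rw [card_L0 P e0 hqd, hqcard, ← hS] at h
      omega
    have h1 : ((S.card : ℤ) - e) ≤ M1 := by
      have h1 : ((S \ orb i0).card : ℤ) ≤ ∑ i ∈ S \ orb i0, m i := by
        rw [Finset.card_eq_sum_ones]
        push_cast
        refine Finset.sum_le_sum fun j hj => ?_
        obtain ⟨hjS, hjo⟩ := Finset.mem_sdiff.1 hj
        have := hne j (fun h => (Finset.mem_filter.1 hjS).2 (by rw [h, zero_mul])) hjo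
        show (1 : ℤ) ≤ (mult P e0 χ j : ℤ)
        omega
      have h2 : ∑ i ∈ S \ orb i0, m i ≤ M1 :=
        Finset.sum_le_sum_of_subset_of_nonneg Finset.sdiff_subset fun j _ _ => Int.natCast_nonneg _
      have h3 := Finset.le_card_sdiff (orb i0) S
      rw [horbcard i0 hi0] at h3
      omega
    rw [hScard] at h1
    have hqd' : (q : ℤ) = p * d := by exact_mod_cast hqd
    have h5' : 5 * (e : ℤ) + 1 ≤ q := by exact_mod_cast h5
    have hnn : (0 : ℤ) ≤ (p : ℤ) - 1 := by linarith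
    have h6 : 7 * ((p : ℤ) - 1) * q ≤ 10 * (p : ℤ) * M1 := by
      have a1 := mul_le_mul_of_nonneg_left h1 (show (0 : ℤ) ≤ 10 * p by positivity)
      have a2 := mul_le_mul_of_nonneg_left h5' hnn
      have a3 := mul_nonneg (show (0 : ℤ) ≤ (e : ℤ) by linarith) (show (0 : ℤ) ≤ (p : ℤ) - 3 by linarith)
      nlinarith only [a1, a2, a3, hqd', hp3', he2']
    have hsq : sval P e0 d χ ^ 2 ≤ ((p : ℤ) - 1) ^ 2 * q := by
      have a1 := mul_le_mul_of_nonneg_left hep' (mul_nonneg hnn (Int.natCast_nonneg q))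
      nlinarith only [a1, hs2, sq_nonneg ((p : ℤ) - 1)]
    have h7 : (15 * sval P e0 d χ) ^ 2 ≤ (7 * ((p : ℤ) - 1) * q) ^ 2 := by
      have a1 := mul_le_mul_of_nonneg_left (show (5 : ℤ) ≤ q by linarith)
        (mul_nonneg (sq_nonneg ((p : ℤ) - 1)) (Int.natCast_nonneg q))
      nlinarith only [a1, hsq, mul_nonneg (sq_nonneg ((p : ℤ) - 1)) (Int.natCast_nonneg q)]
    have h8 : 15 * sval P e0 d χ ≤ 7 * ((p : ℤ) - 1) * q :=
      (pow_le_pow_iff_left₀ (by linarith) (mul_nonneg (mul_nonneg (by norm_num) hnn) (Int.natCast_nonneg q))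
        two_ne_zero).1 h7
    linarith
  -- two classes with multiplicity zero and two with multiplicity one: impossible
  exfalso
  push_neg at hsmall hbig
  have h01 : (1 : ZMod q) ≠ 0 := by
    haveI : Fact (1 < q) := ⟨by omega⟩
    exact one_ne_zero
  obtain ⟨c1, hc1, -, hc1m⟩ := hsmall 1 h01
  obtain ⟨c2, hc2, hc12, hc2m⟩ := hsmall c1 hc1
  obtain ⟨z1, hz1, -, hz1m⟩ := hbig 1 h01
  obtain ⟨z2, hz2, hz12, hz2m⟩ := hbig z1 hz1
  have hsep : ∀ i j, mult P e0 χ i ≠ mult P e0 χ j → i ∉ orb j := fun i j h hm' => h (horbm j i hm')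
  obtain ⟨x, hx⟩ : (Finset.univ \ ({0} ∪ orb c1 ∪ orb c2 ∪ orb z1 ∪ orb z2)).Nonempty := by
    rw [← Finset.card_pos, Finset.card_sdiff_of_subset (Finset.subset_univ _), hqcard]
    have h1 := Finset.card_union_le ({0} ∪ orb c1 ∪ orb c2 ∪ orb z1) (orb z2)
    have h2 := Finset.card_union_le ({0} ∪ orb c1 ∪ orb c2) (orb z1)
    have h3 := Finset.card_union_le ({0} ∪ orb c1) (orb c2)
    have h4 := Finset.card_union_le ({0} : Finset (ZMod q)) (orb c1)
    rw [horbcard z2 hz2] at h1
    rw [horbcard z1 hz1] at h2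
    rw [horbcard c2 hc2] at h3
    rw [horbcard c1 hc1, Finset.card_singleton] at h4
    omega
  simp only [Finset.mem_sdiff, Finset.mem_univ, true_and, Finset.mem_union, Finset.mem_singleton,
    not_or] at hx
  obtain ⟨⟨⟨⟨hx0, hxc1⟩, hxc2⟩, hxz1⟩, hxz2⟩ := hx
  -- inner products of differences
  have hinner : ∀ a b c d' : ZMod q, a ≠ 0 → b ≠ 0 → c ≠ 0 → d' ≠ 0 →
      ∑ χ ∈ B.erase (trivIrr G), (n χ b - n χ a) * (n χ d' - n χ c) =
        (if b ∈ orb d' then 1 else 0) - (if b ∈ orb c then 1 else 0) - (if a ∈ orb d' then 1 else 0) +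
          (if a ∈ orb c then 1 else 0) := by
    intro a b c d' ha' hb hc hd'
    simp only [sub_mul, mul_sub, Finset.sum_sub_distrib, hgram _ _ hb hd', hgram _ _ hb hc,
      hgram _ _ ha' hd', hgram _ _ ha' hc]
    ring
  have hdiff : ∀ z c : ZMod q, z ≠ 0 → c ≠ 0 → mult P e0 χ z = 0 → mult P e0 χ c ≠ 0 →
      mult P e0 χ c = 1 := by
    intro z c hz hc hzm hcm
    have h := Finset.single_le_sum (f := fun χ => (n χ c - n χ z) * (n χ c - n χ z))
      (fun _ _ => mul_self_nonneg _) hχ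
    rw [hinner z c z c hz hc hz hc, if_pos (horbself c), if_pos (horbself z),
      if_neg (hsep c z (by omega)), if_neg (hsep z c (by omega))] at h
    simp only [hn, hzm] at h
    have : (mult P e0 χ c : ℤ) * (mult P e0 χ c : ℤ) ≤ 2 := by push_cast at h; nlinarith
    have h1 : mult P e0 χ c * mult P e0 χ c ≤ 2 := by exact_mod_cast this
    nlinarith [Nat.pos_of_ne_zero hcm]
  by_cases hxm : mult P e0 χ x = 0
  · -- three classes with multiplicity zero
    have hz : ∀ k : Fin 3, ![z1, z2, x] k ≠ 0 ∧ mult P e0 χ (![z1, z2, x] k) = 0 := by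
      intro k; fin_cases k <;> simp [hz1, hz2, hx0, hz1m, hz2m, hxm]
    refine no_four (B.erase (trivIrr G)) hχ
      (fun k χ => n χ (![z1, z2, x] k) - n χ c1) (fun χ => n χ c2 - n χ c1) ?_ ?_ ?_ ?_
      (s := -1) ?_ (by norm_num) ?_
    · intro k
      rw [hinner c1 _ c1 _ hc1 (hz k).1 hc1 (hz k).1, if_pos (horbself _), if_pos (horbself _),
        if_neg (hsep _ _ (by rw [(hz k).2]; omega)), if_neg (hsep _ _ (by rw [(hz k).2]; omega))]
      norm_num
    · rw [hinner c1 c2 c1 c2 hc1 hc2 hc1 hc2, if_pos (horbself _), if_pos (horbself _),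
        if_neg hc12, if_neg (fun h => hc12 (horbsymm _ _ h))]
      norm_num
    · intro k l hkl
      rw [hinner c1 _ c1 _ hc1 (hz k).1 hc1 (hz l).1, if_pos (horbself c1),
        if_neg (hsep _ c1 (by rw [(hz k).2]; omega)), if_neg (hsep c1 _ (by rw [(hz l).2]; omega)),
        if_neg ?_]
      · norm_num
      · exact sep_three (R := fun i j => i ∈ orb j) horbsymm hz12 hxz1 hxz2 k l hkl
    · intro k
      rw [hinner c1 _ c1 c2 hc1 (hz k).1 hc1 hc2, if_pos (horbself c1),
        if_neg (hsep _ c2 (by rw [(hz k).2]; omega)), if_neg (hsep _ c1 (by rw [(hz k).2]; omega)),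
        if_neg (fun h => hc12 (horbsymm _ _ h))]
      norm_num
    · intro k
      simp only [hn, (hz k).2, hdiff z1 c1 hz1 hc1 hz1m hc1m]
      ring
    · simp only [hn, hdiff z1 c1 hz1 hc1 hz1m hc1m, hdiff z1 c2 hz1 hc2 hz1m hc2m]
      ring
  · -- three classes with multiplicity one
    have hc : ∀ k : Fin 3, ![c1, c2, x] k ≠ 0 ∧ mult P e0 χ (![c1, c2, x] k) ≠ 0 := by
      intro k; fin_cases k <;> simp [hc1, hc2, hx0, hc1m, hc2m, hxm]
    refine no_four (B.erase (trivIrr G)) hχ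
      (fun k χ => n χ (![c1, c2, x] k) - n χ z1) (fun χ => n χ z2 - n χ z1) ?_ ?_ ?_ ?_
      (s := 1) ?_ (by norm_num) ?_
    · intro k
      rw [hinner z1 _ z1 _ hz1 (hc k).1 hz1 (hc k).1, if_pos (horbself _), if_pos (horbself _),
        if_neg (hsep _ _ (by rw [hz1m]; exact (hc k).2)),
        if_neg (hsep _ _ (by rw [hz1m]; exact (hc k).2.symm))]
      norm_num
    · rw [hinner z1 z2 z1 z2 hz1 hz2 hz1 hz2, if_pos (horbself _), if_pos (horbself _),
        if_neg hz12, if_neg (fun h => hz12 (horbsymm _ _ h))]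
      norm_num
    · intro k l hkl
      rw [hinner z1 _ z1 _ hz1 (hc k).1 hz1 (hc l).1, if_pos (horbself z1),
        if_neg (hsep _ z1 (by rw [hz1m]; exact (hc k).2)),
        if_neg (hsep z1 _ (by rw [hz1m]; exact (hc l).2.symm)),
        if_neg ?_]
      · norm_num
      · exact sep_three (R := fun i j => i ∈ orb j) horbsymm hc12 hxc1 hxc2 k l hkl
    · intro k
      rw [hinner z1 _ z1 z2 hz1 (hc k).1 hz1 hz2, if_pos (horbself z1),
        if_neg (hsep _ z2 (by rw [hz2m]; exact (hc k).2)),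
        if_neg (hsep _ z1 (by rw [hz1m]; exact (hc k).2)),
        if_neg (fun h => hz12 (horbsymm _ _ h))]
      norm_num
    · intro k
      simp only [hn, hz1m, hdiff z1 _ hz1 (hc k).1 hz1m (hc k).2]
      ring
    · simp only [hn, hz1m, hz2m]
      ring

end Bound

section Main

set_option maxHeartbeats 1000000 in
open Classical in
/-- Simple groups with cyclic Sylow subgroup do not have all pairs generating `p`-solvable groups. -/
theorem false_of_simple {G : Type u} [Group G] [Finite G] [IsSimpleGroup G] (hG : ¬ IsMulCommutative G)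
    {p : ℕ} [Fact p.Prime] (P : Sylow p G) (hP : IsCyclic (P : Subgroup G)) (hdvd : p ∣ Nat.card G)
    (hc : ∀ x y : G, orderOf x = p → orderOf y = p →
      Cfsg.IsPSolvable p ↥(Subgroup.closure ({x, y} : Set G))) : False := by
  haveI := Fintype.ofFinite G
  haveI := Fintype.ofFinite (IrrCharacter G)
  have hp := (Fact.out : p.Prime)
  set q := Nat.card (P : Subgroup G) with hqdef
  haveI : NeZero q := ⟨Nat.card_pos.ne'⟩
  set e0 : Multiplicative (ZMod q) ≃* (P : Subgroup G) := zmodCyclicMulEquiv hP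
  obtain ⟨a, hqa⟩ : ∃ a, q = p ^ (a + 1) := by
    refine ⟨(Nat.card G).factorization p - 1, ?_⟩
    rw [hqdef, P.card_eq_multiplicity,
      Nat.sub_add_cancel (hp.factorization_pos_of_dvd Nat.card_pos.ne' hdvd)]
  set d := p ^ a with hd
  have hqd : q = p * d := by rw [hqa, hd, pow_succ']
  have hd0 := d_ne_zero hqd hp.one_lt (NeZero.ne q)
  have hq1 : q ≠ 1 := by rw [hqa]; exact (Nat.one_lt_pow (by omega) hp.one_lt).ne'
  have he2 := one_lt_card_U P e0 hG hdvd hq1
  have hep := card_U_le P e0 hqd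
  have hp3 : 3 ≤ p := by omega
  have hx : orderOf (gp P e0 (d : ZMod q)) = p := orderOf_gp_eq P e0 hd0 (p_mul_d hqd)
  have hidx : ∀ z : G, orderOf z = p →
      ∃ k, (pPrimeCore p (Subgroup.centralizer ({z} : Set G))).index = p ^ k := by
    intro z hz
    obtain ⟨k, hk, c, rfl⟩ := exists_conj_W P e0 hqd hz
    exact ⟨a + 1, by rw [(Cfsg.Agent.S1951.transport c _).1,
      index_core P hP (gp_mem P e0 k) (gp_ne_one P e0 ((mem_W_iff hqd).1 hk).1), ← hqdef, hqa]⟩
  have hκ : ∀ z : G, orderOf z = p → Nat.card (core p z) = Nat.card (core p (gp P e0 (d : ZMod q))) := by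
    intro z hz
    obtain ⟨k, hk, c, rfl⟩ := exists_conj_W P e0 hqd hz
    rw [card_core, card_core, (Cfsg.Agent.S1951.transport c _).2, centralizer_gp_W P e0 hqd hk]
  obtain ⟨M, hM⟩ := exists_isPModular hp
  haveI := isPrime_of_isPModular hM
  haveI := comm P e0
  obtain ⟨hf, hsq, hdeg, hineq⟩ :=
    inequality hM (pairOK_of_isPSolvable P inferInstance hc) hidx hκ ⟨_, mem_ordP.2 hx⟩
  set f := frac G p (Nat.card (core p (gp P e0 (d : ZMod q))))
  set B := Finset.univ.filter fun χ : IrrCharacter G => χ ∈ principalBlock M G with hB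
  set b := fun χ : IrrCharacter G => (mean p χ).re with hbdef
  set s := fun χ : IrrCharacter G => sval P e0 d χ with hsdef
  set e := (U P e0).card with he
  have hp3' : (3 : ℝ) ≤ p := by exact_mod_cast hp3
  have hp1 : (0 : ℝ) < (p : ℝ) - 1 := by linarith
  have hb : ∀ χ, ((p : ℝ) - 1) * b χ = (s χ : ℝ) := by
    intro χ
    have h := congrArg Complex.re (mean_eq P e0 hqd χ)
    rw [show ((p : ℂ) - 1) = (((p : ℝ) - 1 : ℝ) : ℂ) by push_cast; ring, Complex.re_ofReal_mul,
      Complex.intCast_re] at h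
    exact h
  have hF : ∑ χ ∈ B, b χ ^ 2 = (q : ℝ) * e / ((p : ℝ) - 1) := by
    have h : ((∑ χ ∈ B, s χ ^ 2 : ℤ) : ℝ) = (((q : ℤ) * e * (p - 1 : ℕ) : ℤ) : ℝ) := by
      rw [sum_sval_sq P e0 hM hqd]
    push_cast [Nat.cast_sub hp.one_lt.le] at h
    simp only [← hb, mul_pow, ← Finset.mul_sum] at h
    rw [eq_div_iff hp1.ne']
    have h' := mul_left_cancel₀ hp1.ne' (show ((p : ℝ) - 1) * ((∑ χ ∈ B, b χ ^ 2) * ((p : ℝ) - 1)) =
      ((p : ℝ) - 1) * ((q : ℝ) * e) by linear_combination h)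
    exact h'
  set t : IrrCharacter G := trivIrr G
  have htB : t ∈ B := Finset.mem_filter.2 ⟨Finset.mem_univ _, self_mem_blockOf (M := M) (trivIrr G)⟩
  have hbt : b t = 1 := by
    have h := hb t
    have hst : s t = (p : ℤ) - 1 := by
      simp [hsdef, t, sval, mult_triv, charDegree_trivIrr, Finset.sum_ite_eq']
    rw [hst] at h
    push_cast at h
    exact mul_left_cancel₀ hp1.ne' (h.trans (mul_one _).symm)
  have hterm : ∀ χ ∈ B.erase t, b χ ^ 3 / (charDegree (χ : G → ℂ) : ℝ) ≤ 2 / 5 * b χ ^ 2 := by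
    intro χ hχ
    have hX : (0 : ℝ) < charDegree (χ : G → ℂ) := Nat.cast_pos.2 (charDegree_irr_pos χ)
    rw [div_le_iff₀ hX]
    rcases le_or_gt (s χ) 0 with h | h
    · have : b χ ≤ 0 := by
        have : (s χ : ℝ) ≤ 0 := by exact_mod_cast h
        rw [← hb] at this
        nlinarith
      nlinarith [mul_nonpos_of_nonneg_of_nonpos (sq_nonneg (b χ)) this, mul_nonneg (sq_nonneg (b χ)) hX.le]
    · have h5 : 5 * b χ ≤ 2 * (charDegree (χ : G → ℂ) : ℝ) := by
        have h1 : ((5 * s χ : ℤ) : ℝ) ≤ ((2 * ((p : ℤ) - 1) * (charDegree (χ : G → ℂ) : ℤ) : ℤ) : ℝ) :=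
          Int.cast_le.2 (bound P e0 hM hqd hqa he2 hχ h)
        push_cast at h1
        rw [← hb] at h1
        nlinarith
      nlinarith [mul_le_mul_of_nonneg_left h5 (sq_nonneg (b χ))]
  have hXt : (charDegree (t : G → ℂ) : ℝ) = 1 := by rw [charDegree_trivIrr]; norm_num
  have hsplit : ∑ χ ∈ B.erase t, b χ ^ 2 = (q : ℝ) * e / ((p : ℝ) - 1) - 1 := by
    rw [Finset.sum_erase_eq_sub htB, hF, hbt]; norm_num
  have hT : ∑ χ ∈ B, b χ ^ 3 / (charDegree (χ : G → ℂ) : ℝ) ≤
      1 + 2 / 5 * ((q : ℝ) * e / ((p : ℝ) - 1) - 1) := by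
    rw [← Finset.add_sum_erase _ _ htB, hbt, hXt, ← hsplit, Finset.mul_sum]
    norm_num
    exact Finset.sum_le_sum hterm
  have he2' : (2 : ℝ) ≤ e := by exact_mod_cast he2
  have hep' : (e : ℝ) ≤ (p : ℝ) - 1 := by
    have : (e : ℝ) ≤ ((p - 1 : ℕ) : ℝ) := by exact_mod_cast hep
    rwa [Nat.cast_sub hp.one_lt.le, Nat.cast_one] at this
  have hqp : (p : ℝ) ≤ q := by exact_mod_cast (hqa ▸ Nat.le_self_pow (by omega) p : p ≤ q)
  have hfF : f * ((q : ℝ) * e / ((p : ℝ) - 1)) = 1 := by rw [← hF]; exact hsq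
  have h1 := mul_le_mul_of_nonneg_left hT hf.le
  rcases Nat.lt_or_ge p 5 with hp5 | hp5
  · have hp' : p = 3 := by
      rcases (show p = 3 ∨ p = 4 by omega) with h' | h'
      · exact h'
      · rw [h'] at hp; exact absurd hp (by norm_num)
    subst hp'
    have hee : e = 2 := by omega
    have hee' : (e : ℝ) = 2 := by exact_mod_cast hee
    rw [hee'] at hfF hT
    norm_num at hfF hineq hT
    rcases Nat.eq_zero_or_pos a with ha | ha
    · -- some value is negative, and at most `-1`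
      have hq3 : q = 3 := by rw [hqa, ha]; norm_num
      have hq3' : (q : ℝ) = 3 := by exact_mod_cast hq3
      obtain ⟨w, hw, hwneg⟩ : ∃ w ∈ B.erase t, b w < 0 := by
        by_contra hc'
        push_neg at hc'
        have h0 : 0 ≤ ∑ χ ∈ B.erase t, b χ * (charDegree (χ : G → ℂ) : ℝ) :=
          Finset.sum_nonneg fun χ hχ => mul_nonneg (hc' χ hχ) (Nat.cast_nonneg _)
        rw [Finset.sum_erase_eq_sub htB, hdeg, hbt, hXt] at h0
        norm_num at h0
      have hw1 : b w ≤ -1 := by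
        have hWd : W 3 d q = (U P e0).image (fun r => r * (d : ZMod q)) := by
          refine (Finset.eq_of_subset_of_card_le (fun k hk => ?_) ?_).symm
          · obtain ⟨r, hr, rfl⟩ := Finset.mem_image.1 hk
            exact U_mul_mem_W P e0 hqd hr ((mem_W_iff hqd).2 ⟨hd0, p_mul_d hqd⟩)
          · rw [Finset.card_image_of_injOn (fun r hr r' hr' h => U_cancel P e0 hr hr' hd0 h),
              card_W P e0 hqd, ← he, hee]
        have hval : ((s w : ℤ) : ℂ) = 2 * (w : G → ℂ) (gp P e0 (d : ZMod q)) := by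
          simp only [hsdef]
          rw [sval_eq P e0 hqd, hWd, Finset.sum_image (fun r hr r' hr' h => U_cancel P e0 hr hr' hd0 h),
            Finset.sum_congr rfl (g := fun _ => (w : G → ℂ) (gp P e0 (d : ZMod q))) fun r hr => ?_,
            Finset.sum_const, ← he, hee, nsmul_eq_mul]
          · push_cast; ring
          · obtain ⟨c, hc⟩ := isConj_iff.1 ((isConj_gp P e0).2 ⟨r, hr, rfl⟩ :
              IsConj (gp P e0 (d : ZMod q)) (gp P e0 (r * (d : ZMod q))))
            rw [← hc, irr_isClassFunction w _ c]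
        obtain ⟨z, hz⟩ := RealVector.exists_int_of_isIntegral (q := ((s w : ℤ) : ℚ) / 2) (by
          have h : (((((s w : ℤ) : ℚ) / 2 : ℚ)) : ℂ) = (w : G → ℂ) (gp P e0 (d : ZMod q)) := by
            push_cast; rw [hval]; ring
          rw [h]; exact IsCharacter.isIntegral (irr_isCharacter w) _)
        have hz' : s w = 2 * z := by
          have : ((s w : ℤ) : ℚ) = 2 * (z : ℚ) := by rw [← hz]; ring
          exact_mod_cast this
        have h := hb w
        rw [hz'] at h
        norm_num at h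
        have hbz : b w = (z : ℝ) := by linarith
        rw [hbz] at hwneg ⊢
        have : z < 0 := by exact_mod_cast hwneg
        exact_mod_cast (show z ≤ -1 by omega)
      have hw3 : b w ^ 3 / (charDegree (w : G → ℂ) : ℝ) ≤ 0 :=
        div_nonpos_of_nonpos_of_nonneg (by nlinarith [sq_nonneg (b w)]) (Nat.cast_nonneg _)
      have hT' : ∑ χ ∈ B, b χ ^ 3 / (charDegree (χ : G → ℂ) : ℝ) ≤ 1 + 2 / 5 * (2 - b w ^ 2) := by
        have h := Finset.sum_le_sum (s := (B.erase t).erase w) (fun χ hχ => hterm χ (Finset.mem_of_mem_erase hχ))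
        rw [← Finset.mul_sum, Finset.sum_erase_eq_sub hw (f := fun χ => b χ ^ 2), hsplit, hee', hq3'] at h
        rw [← Finset.add_sum_erase _ _ htB, ← Finset.add_sum_erase _ _ hw, hbt, hXt]
        norm_num at h ⊢
        linarith
      have h2 := mul_le_mul_of_nonneg_left hT' hf.le
      rw [hq3'] at hfF
      have hw2 : (1 : ℝ) ≤ b w ^ 2 := by nlinarith
      nlinarith [mul_le_mul_of_nonneg_left hw2 hf.le]
    · have hq9 : (9 : ℝ) ≤ q := by
        have : 3 ^ 2 ≤ q := hqa ▸ Nat.pow_le_pow_right (by norm_num) (by omega)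
        exact_mod_cast this
      nlinarith [mul_le_mul_of_nonneg_left hq9 hf.le]
  · have hp5' : (5 : ℝ) ≤ p := by exact_mod_cast hp5
    have hF2 : 2 * (p : ℝ) ≤ (q : ℝ) * e := by nlinarith
    have hf2 : f * (2 * (p : ℝ)) ≤ (p : ℝ) - 1 := by
      rw [← mul_div_assoc, div_eq_iff hp1.ne', one_mul] at hfF
      nlinarith [mul_le_mul_of_nonneg_left hF2 hf.le]
    have hT1 : f * ∑ χ ∈ B, b χ ^ 3 / (charDegree (χ : G → ℂ) : ℝ) ≤ 3 / 5 * f + 2 / 5 := by
      calc _ ≤ _ := h1
        _ = 3 / 5 * f + 2 / 5 * (f * ((q : ℝ) * e / ((p : ℝ) - 1))) := by ring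
        _ = _ := by rw [hfF]; ring
    nlinarith [mul_le_mul_of_nonneg_left hT1 hp1.le]

end Main

end Cfsg.Agent.Lib.Characters.PairCount.Cyclic
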