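import Cfsg.Agent.Lib.Characters.PairCount.Local
import Cfsg.Agent.Lib.PGroups.CyclicSylowBasic
import Cfsg.Agent.Lib.Blocks.HomocyclicTwo

/-!
# A cyclic Sylow subgroup as `ℤ/qℤ`

The exponents `U` of the automorphisms induced by the normaliser, fusion, and the elements of
order `p`.
-/

set_option autoImplicit false
set_option linter.unusedSectionVars false
set_option linter.style.haveILetI false

namespace Cfsg.Agent.Lib.Characters.PairCount.Cyclic

open Cfsg Cfsg.Agent.Lib.Characters Cfsg.Agent.Lib.Blocks Cfsg.Agent.Lib.Cores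
open Cfsg.Agent.Lib.PGroups.CyclicDichotomy

universe u

variable {G : Type u} [Group G] [Finite G] {p q : ℕ} [Fact p.Prime] [NeZero q]
variable (P : Sylow p G) (e0 : Multiplicative (ZMod q) ≃* (P : Subgroup G))

/-- The element with exponent `k`. -/
def gp (k : ZMod q) : G := ((e0 (Multiplicative.ofAdd k) : (P : Subgroup G)) : G)

theorem gp_mem (k : ZMod q) : gp P e0 k ∈ (P : Subgroup G) := SetLike.coe_mem _

theorem gp_zero : gp P e0 0 = 1 := by simp [gp]

theorem gp_add (k l : ZMod q) : gp P e0 (k + l) = gp P e0 k * gp P e0 l := by simp [gp]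

theorem gp_inj {k l : ZMod q} (h : gp P e0 k = gp P e0 l) : k = l :=
  Multiplicative.ofAdd.injective (e0.injective (Subtype.ext h))

theorem gp_ne_one {k : ZMod q} (hk : k ≠ 0) : gp P e0 k ≠ 1 :=
  fun h => hk (gp_inj P e0 (h.trans (gp_zero P e0).symm))

theorem exists_gp {x : G} (hx : x ∈ (P : Subgroup G)) : ∃ k, gp P e0 k = x :=
  ⟨Multiplicative.toAdd (e0.symm ⟨x, hx⟩), by simp [gp]⟩

theorem gp_pow (k : ZMod q) (m : ℕ) : gp P e0 k ^ m = gp P e0 ((m : ZMod q) * k) := by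
  induction m with
  | zero => simp [gp_zero]
  | succ m ih => rw [pow_succ, ih, ← gp_add]; push_cast; ring_nf

include e0 in
theorem cyclic : IsCyclic (P : Subgroup G) :=
  isCyclic_of_surjective e0.toMonoidHom e0.surjective

include e0 in
theorem comm : IsMulCommutative ↥(P : Subgroup G) :=
  ⟨⟨fun a b => Subtype.ext (sylow_comm P (cyclic P e0) a a.2 b b.2)⟩⟩

/-- An element of the normaliser acts on exponents by a multiplication. -/
theorem conj_gp {n : G} {r : ZMod q} (h : n * gp P e0 1 * n⁻¹ = gp P e0 r) (k : ZMod q) :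
    n * gp P e0 k * n⁻¹ = gp P e0 (r * k) := by
  have hk : gp P e0 k = gp P e0 1 ^ k.val := by rw [gp_pow, ZMod.natCast_zmod_val, mul_one]
  rw [hk, ← conj_pow, h, gp_pow, ZMod.natCast_zmod_val, mul_comm]

omit e0 [NeZero q] in
/-- An element of the normaliser fixing a nonidentity element centralises the Sylow subgroup. -/
theorem mem_centralizer_of_fix (hc : IsCyclic (P : Subgroup G)) {n w : G}
    (hn : n ∈ Subgroup.normalizer ((P : Subgroup G) : Set G))
    (hw : w ∈ (P : Subgroup G)) (hw1 : w ≠ 1) (h : n * w = w * n) :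
    n ∈ Subgroup.centralizer ((P : Subgroup G) : Set G) := by
  obtain ⟨k, hk⟩ := IsPGroup.iff_orderOf.mp P.2 ⟨w, hw⟩
  rw [Subgroup.orderOf_mk] at hk
  have hk0 : k ≠ 0 := by
    rintro rfl
    exact hw1 (orderOf_eq_one_iff.1 (hk.trans (pow_zero p)))
  have hzo : orderOf (w ^ (orderOf w / p)) = p :=
    orderOf_pow_orderOf_div (orderOf_pos w).ne' (hk ▸ dvd_pow_self p hk0)
  refine mem_centralizer_of_parts P hc hn fun i hi => ?_
  exact rigid_fix P.2 hc (fun x hx => (Subgroup.mem_normalizer_iff.1 (pow_mem hn i) x).1 hx) hi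
    (pow_mem hw _) hzo ((Commute.pow_pow (show Commute n w from h) i _).eq)

/-- The exponents of the automorphisms induced by the normaliser. -/
noncomputable def U : Finset (ZMod q) :=
  open scoped Classical in Finset.univ.filter fun r =>
    ∃ n ∈ Subgroup.normalizer ((P : Subgroup G) : Set G), n * gp P e0 1 * n⁻¹ = gp P e0 r

theorem mem_U {r : ZMod q} : r ∈ U P e0 ↔
    ∃ n ∈ Subgroup.normalizer ((P : Subgroup G) : Set G), n * gp P e0 1 * n⁻¹ = gp P e0 r := by
  simp [U]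

theorem one_mem_U : (1 : ZMod q) ∈ U P e0 :=
  (mem_U P e0).2 ⟨1, one_mem _, by simp⟩

theorem mul_mem_U {r s : ZMod q} (hr : r ∈ U P e0) (hs : s ∈ U P e0) : r * s ∈ U P e0 := by
  obtain ⟨n, hn, e⟩ := (mem_U P e0).1 hr
  obtain ⟨m, hm, e'⟩ := (mem_U P e0).1 hs
  refine (mem_U P e0).2 ⟨n * m, mul_mem hn hm, ?_⟩
  rw [← conj_gp P e0 e s, ← e']
  group

theorem exists_inv_U {r : ZMod q} (hr : r ∈ U P e0) : ∃ s ∈ U P e0, s * r = 1 := by
  obtain ⟨n, hn, e⟩ := (mem_U P e0).1 hr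
  obtain ⟨s, hs⟩ := exists_gp P e0 ((Subgroup.mem_normalizer_iff.1 (inv_mem hn) _).1 (gp_mem P e0 1))
  have hs' : n⁻¹ * gp P e0 1 * n⁻¹⁻¹ = gp P e0 s := hs.symm
  refine ⟨s, (mem_U P e0).2 ⟨n⁻¹, inv_mem hn, hs'⟩, gp_inj P e0 ?_⟩
  rw [← conj_gp P e0 hs' r, ← e]
  group

theorem U_mul_ne_zero {r k : ZMod q} (hr : r ∈ U P e0) (hk : k ≠ 0) : r * k ≠ 0 := by
  intro h
  obtain ⟨s, -, hs⟩ := exists_inv_U P e0 hr
  exact hk (by rw [← one_mul k, ← hs, mul_assoc, h, mul_zero])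

theorem U_ne_zero (hq : q ≠ 1) {r : ZMod q} (hr : r ∈ U P e0) : r ≠ 0 := by
  have h1 : (1 : ZMod q) ≠ 0 := by
    haveI : Fact (1 < q) := ⟨by have := NeZero.ne q; omega⟩
    exact one_ne_zero
  simpa using U_mul_ne_zero P e0 hr h1

/-- The action is fixed point free. -/
theorem eq_one_of_fix {r k : ZMod q} (hr : r ∈ U P e0) (hk : k ≠ 0) (h : r * k = k) : r = 1 := by
  obtain ⟨n, hn, e⟩ := (mem_U P e0).1 hr
  have h1 := conj_gp P e0 e k
  rw [h, mul_inv_eq_iff_eq_mul] at h1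
  have h2 := mem_centralizer_of_fix P (cyclic P e0) hn (gp_mem P e0 k) (gp_ne_one P e0 hk) h1
  refine gp_inj P e0 ?_
  rw [← e, ← Subgroup.mem_centralizer_iff.1 h2 _ (gp_mem P e0 1), mul_inv_cancel_right]

theorem U_cancel {r r' k : ZMod q} (hr : r ∈ U P e0) (hr' : r' ∈ U P e0) (hk : k ≠ 0)
    (h : r * k = r' * k) : r = r' := by
  obtain ⟨s, hs, hs1⟩ := exists_inv_U P e0 hr'
  have h1 := eq_one_of_fix P e0 (mul_mem_U P e0 hs hr) hk (by rw [mul_assoc, h, ← mul_assoc, hs1, one_mul])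
  calc r = r' * (s * r) := by rw [← mul_assoc, mul_comm r' s, hs1, one_mul]
    _ = r' := by rw [h1, mul_one]

/-- Fusion. -/
theorem isConj_gp {k l : ZMod q} :
    IsConj (gp P e0 k) (gp P e0 l) ↔ ∃ r ∈ U P e0, l = r * k := by
  haveI := comm P e0
  constructor
  · intro h
    obtain ⟨c, hc⟩ := isConj_iff.1 h
    have h' : c⁻¹⁻¹ * gp P e0 k * c⁻¹ ∈ (P : Subgroup G) := by rw [inv_inv, hc]; exact gp_mem P e0 l
    obtain ⟨n, hn, e⟩ := P.conj_eq_normalizer_conj_of_mem _ c⁻¹ (gp_mem P e0 k) h'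
    rw [inv_inv, hc] at e
    obtain ⟨r, hr⟩ := exists_gp P e0 ((Subgroup.mem_normalizer_iff.1 (inv_mem hn) _).1 (gp_mem P e0 1))
    refine ⟨r, (mem_U P e0).2 ⟨n⁻¹, inv_mem hn, hr.symm⟩, gp_inj P e0 ?_⟩
    rw [← conj_gp P e0 hr.symm k, e, inv_inv]
  · rintro ⟨r, hr, rfl⟩
    obtain ⟨n, -, e⟩ := (mem_U P e0).1 hr
    exact isConj_iff.2 ⟨n, conj_gp P e0 e k⟩

omit e0 [NeZero q] in
/-- The `p'`-core of the centraliser of a nonidentity element of the Sylow subgroup has index `|P|`. -/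
theorem index_core (hc : IsCyclic (P : Subgroup G)) {w : G} (hw : w ∈ (P : Subgroup G)) (hw1 : w ≠ 1) :
    (pPrimeCore p (Subgroup.centralizer ({w} : Set G))).index = Nat.card (P : Subgroup G) := by
  have hle : (P : Subgroup G) ≤ Subgroup.centralizer ({w} : Set G) := fun y hy =>
    Subgroup.mem_centralizer_singleton_iff.2 (sylow_comm P hc y hy w hw)
  set Q := P.subtype hle
  have hcard : Nat.card (Q : Subgroup (Subgroup.centralizer ({w} : Set G))) = Nat.card (P : Subgroup G) :=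
    Nat.card_congr (Subgroup.subgroupOfEquivOfLe hle).toEquiv
  rw [← hcard]
  refine index_pPrimeCore_of_normalizer_le Q fun c hc' => ?_
  have hn : (c : G) ∈ Subgroup.normalizer ((P : Subgroup G) : Set G) := by
    rw [Subgroup.mem_normalizer_iff] at hc' ⊢
    intro y
    constructor
    · intro hy
      exact (hc' ⟨y, hle hy⟩).1 hy
    · intro hy
      have hy' : y ∈ Subgroup.centralizer ({w} : Set G) := by
        have h := mul_mem (mul_mem (inv_mem c.2) (hle hy)) c.2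
        simpa [mul_assoc] using h
      exact (hc' ⟨y, hy'⟩).2 hy
  have hC := mem_centralizer_of_fix P hc hn hw hw1 (Subgroup.mem_centralizer_singleton_iff.1 c.2)
  exact Subgroup.mem_centralizer_iff.2 fun y hy =>
    Subtype.ext (Subgroup.mem_centralizer_iff.1 hC (y : G) hy)

variable {d : ℕ}

/-- The exponents of the elements of order `p`. -/
def W (p d q : ℕ) : Finset (ZMod q) := (Finset.Ico 1 p).image fun j : ℕ => (j : ZMod q) * (d : ZMod q)

omit [Fact p.Prime] [NeZero q] in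
theorem d_ne_zero (hqd : q = p * d) (hp : 1 < p) (hq0 : q ≠ 0) : (d : ZMod q) ≠ 0 := by
  rw [Ne, ZMod.natCast_eq_zero_iff]
  intro h
  have hd : 0 < d := Nat.pos_of_ne_zero fun h0 => hq0 (by rw [hqd, h0, mul_zero])
  have := Nat.le_of_dvd hd h
  nlinarith

theorem p_mul_d (hqd : q = p * d) : (p : ZMod q) * (d : ZMod q) = 0 := by
  rw [← Nat.cast_mul, ← hqd, ZMod.natCast_self]

theorem orderOf_gp_eq {k : ZMod q} (hk : k ≠ 0) (hpk : (p : ZMod q) * k = 0) :
    orderOf (gp P e0 k) = p :=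
  orderOf_eq_prime (by rw [gp_pow, hpk, gp_zero]) (gp_ne_one P e0 hk)

theorem exists_mult_of_p_mul (hqd : q = p * d) {k : ZMod q} (hk : k ≠ 0)
    (hpk : (p : ZMod q) * k = 0) : k ∈ W p d q := by
  have hp := (Fact.out : p.Prime)
  rw [← ZMod.natCast_zmod_val k, ← Nat.cast_mul, ZMod.natCast_eq_zero_iff] at hpk
  replace hpk : p * d ∣ p * k.val := (dvd_of_eq hqd.symm).trans hpk
  obtain ⟨j, hj⟩ := Nat.dvd_of_mul_dvd_mul_left hp.pos hpk
  refine Finset.mem_image.2 ⟨j, Finset.mem_Ico.2 ⟨?_, ?_⟩, ?_⟩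
  · rcases Nat.eq_zero_or_pos j with rfl | h
    · rw [mul_zero] at hj
      exact absurd ((ZMod.val_eq_zero k).1 hj) hk
    · exact h
  · by_contra hcon
    push_neg at hcon
    have h1 := ZMod.val_lt k
    have h2 : q = d * p := hqd.trans (mul_comm p d)
    rw [hj] at h1
    have h3 := Nat.mul_le_mul_left d hcon
    omega
  · rw [← Nat.cast_mul, mul_comm, ← hj, ZMod.natCast_zmod_val]

include P e0 in
theorem image_eq_W (hqd : q = p * d) {k : ZMod q} (hk : k ≠ 0) (hpk : (p : ZMod q) * k = 0) :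
    (Finset.Ico 1 p).image (fun j : ℕ => (j : ZMod q) * k) = W p d q ∧ (W p d q).card = p - 1 ∧
      Set.InjOn (fun j : ℕ => (j : ZMod q) * k) (Finset.Ico 1 p) := by
  have ho := orderOf_gp_eq P e0 hk hpk
  have hinj : Set.InjOn (fun j : ℕ => (j : ZMod q) * k) (Finset.Ico 1 p) := by
    intro a ha b hb e
    rw [Finset.mem_coe, Finset.mem_Ico] at ha hb
    refine pow_injOn_Iio_orderOf (x := gp P e0 k) (by rw [Set.mem_Iio, ho]; exact ha.2)
      (by rw [Set.mem_Iio, ho]; exact hb.2) ?_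
    simp only [gp_pow]
    exact congrArg _ e
  have hcard : ((Finset.Ico 1 p).image fun j : ℕ => (j : ZMod q) * k).card = p - 1 := by
    rw [Finset.card_image_of_injOn hinj, Nat.card_Ico]
  have hle : (W p d q).card ≤ p - 1 := Finset.card_image_le.trans (Nat.card_Ico 1 p).le
  have hsub : (Finset.Ico 1 p).image (fun j : ℕ => (j : ZMod q) * k) ⊆ W p d q := by
    intro w hw
    obtain ⟨j, hj, rfl⟩ := Finset.mem_image.1 hw
    rw [Finset.mem_Ico] at hj
    refine exists_mult_of_p_mul hqd (fun h => ?_) (by rw [mul_left_comm, hpk, mul_zero])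
    have h1 : gp P e0 k ^ j = gp P e0 k ^ 0 := by rw [gp_pow, h, gp_zero, pow_zero]
    have := pow_injOn_Iio_orderOf (by rw [Set.mem_Iio, ho]; exact hj.2)
      (by rw [Set.mem_Iio, ho]; exact (Fact.out : p.Prime).pos) h1
    omega
  have h := Finset.eq_of_subset_of_card_le hsub (hle.trans hcard.ge)
  exact ⟨h, h ▸ hcard, hinj⟩

include P e0 in
theorem card_W (hqd : q = p * d) : (W p d q).card = p - 1 :=
  (image_eq_W P e0 hqd (d_ne_zero hqd (Fact.out : p.Prime).one_lt (NeZero.ne q)) (p_mul_d hqd)).2.1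

theorem mem_W_iff (hqd : q = p * d) {k : ZMod q} :
    k ∈ W p d q ↔ k ≠ 0 ∧ (p : ZMod q) * k = 0 := by
  refine ⟨fun h => ?_, fun h => exists_mult_of_p_mul hqd h.1 h.2⟩
  obtain ⟨j, hj, rfl⟩ := Finset.mem_image.1 h
  rw [Finset.mem_Ico] at hj
  refine ⟨fun h => ?_, by rw [mul_left_comm, p_mul_d hqd, mul_zero]⟩
  rw [← Nat.cast_mul, ZMod.natCast_eq_zero_iff] at h
  replace h : p * d ∣ j * d := (dvd_of_eq hqd.symm).trans h
  have hd : 0 < d := Nat.pos_of_ne_zero fun h0 => NeZero.ne q (by rw [hqd, h0, mul_zero])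
  have := Nat.le_of_dvd (by omega) (Nat.dvd_of_mul_dvd_mul_right hd h)
  omega

theorem U_mul_mem_W (hqd : q = p * d) {r k : ZMod q} (hr : r ∈ U P e0) (hk : k ∈ W p d q) :
    r * k ∈ W p d q := by
  rw [mem_W_iff hqd] at hk ⊢
  exact ⟨U_mul_ne_zero P e0 hr hk.1, by rw [mul_left_comm, hk.2, mul_zero]⟩

/-- `|U| ≤ p - 1`. -/
theorem card_U_le (hqd : q = p * d) : (U P e0).card ≤ p - 1 := by
  have hd := d_ne_zero hqd (Fact.out : p.Prime).one_lt (NeZero.ne q)
  rw [← card_W P e0 hqd]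
  exact Finset.card_le_card_of_injOn (fun r => r * (d : ZMod q))
    (fun r hr => U_mul_mem_W P e0 hqd hr ((mem_W_iff hqd).2 ⟨hd, p_mul_d hqd⟩))
    (fun r hr r' hr' h => U_cancel P e0 hr hr' hd h)

/-- Every element of order `p` is conjugate to some `gp k` with `k ∈ W`. -/
theorem exists_conj_W (hqd : q = p * d) {z : G} (hz : orderOf z = p) :
    ∃ k ∈ W p d q, ∃ c : G, c * gp P e0 k * c⁻¹ = z := by
  obtain ⟨Q, hQ⟩ := (IsPGroup.of_card (G := Subgroup.zpowers z) (n := 1)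
    (by rw [Nat.card_zpowers, hz, pow_one])).exists_le_sylow
  obtain ⟨a, ha⟩ := MulAction.exists_smul_eq G P Q
  have hz' : z ∈ ((a • P : Sylow p G) : Subgroup G) := ha ▸ hQ (Subgroup.mem_zpowers z)
  rw [Sylow.smul_def, Sylow.pointwise_smul_def] at hz'
  obtain ⟨w, hw, hwz⟩ := hz'
  replace hwz : a * w * a⁻¹ = z := hwz
  obtain ⟨k, rfl⟩ := exists_gp P e0 hw
  have ho : orderOf (gp P e0 k) = p := by
    refine Eq.trans ?_ hz
    rw [← hwz]
    exact (orderOf_injective (MulAut.conj a).toMonoidHom (MulAut.conj a).injective _).symm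
  refine ⟨k, (mem_W_iff hqd).2 ⟨fun h => ?_, gp_inj P e0 ?_⟩, a, hwz⟩
  · rw [h, gp_zero, orderOf_one] at ho
    exact (Fact.out : p.Prime).ne_one ho.symm
  · have h := pow_orderOf_eq_one (gp P e0 k)
    rw [ho] at h
    rw [← gp_pow, h, gp_zero]

theorem centralizer_gp_W (hqd : q = p * d) {k : ZMod q} (hk : k ∈ W p d q) :
    Subgroup.centralizer ({gp P e0 k} : Set G) = Subgroup.centralizer ({gp P e0 (d : ZMod q)} : Set G) := by
  have hd : (d : ZMod q) ≠ 0 := d_ne_zero hqd (Fact.out : p.Prime).one_lt (NeZero.ne q)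
  have key : ∀ a b : ZMod q, a ≠ 0 → (p : ZMod q) * a = 0 → b ∈ W p d q →
      Subgroup.centralizer ({gp P e0 a} : Set G) ≤ Subgroup.centralizer ({gp P e0 b} : Set G) := by
    intro a b ha hpa hb c hc
    rw [← (image_eq_W P e0 hqd ha hpa).1] at hb
    obtain ⟨j, -, rfl⟩ := Finset.mem_image.1 hb
    rw [Subgroup.mem_centralizer_singleton_iff] at hc ⊢
    rw [← gp_pow]
    exact ((show Commute c _ from hc).pow_right j).eq
  exact le_antisymm
    (key _ _ ((mem_W_iff hqd).1 hk).1 ((mem_W_iff hqd).1 hk).2 ((mem_W_iff hqd).2 ⟨hd, p_mul_d hqd⟩))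
    (key _ _ hd (p_mul_d hqd) hk)

omit e0 [NeZero q] in
/-- With a trivial action of the normaliser there is a normal `p`-complement. -/
theorem not_simple_of_complement [IsSimpleGroup G] (hc : IsCyclic (P : Subgroup G))
    (hG : ¬ IsMulCommutative G) (hdvd : p ∣ Nat.card G) : ¬ HasNormalPComplement p G := by
  rintro ⟨S, N, hN, hcomp⟩
  have hS : Nat.card (S : Subgroup G) = Nat.card (P : Subgroup G) := by
    rw [S.card_eq_multiplicity, P.card_eq_multiplicity]
  have hP1 : 1 < Nat.card (P : Subgroup G) := by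
    rw [P.card_eq_multiplicity]
    exact Nat.one_lt_pow ((Fact.out : p.Prime).factorization_pos_of_dvd Nat.card_pos.ne' hdvd).ne'
      (Fact.out : p.Prime).one_lt
  have hm := hcomp.card_mul
  rcases IsSimpleGroup.eq_bot_or_eq_top_of_normal N hN with rfl | rfl
  · rw [Subgroup.card_bot, one_mul, hS] at hm
    have htop := Subgroup.eq_top_of_card_eq _ hm
    refine hG ⟨⟨fun a b => sylow_comm P hc a (htop ▸ Subgroup.mem_top a) b (htop ▸ Subgroup.mem_top b)⟩⟩
  · rw [Subgroup.card_top, hS] at hm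
    have := Nat.card_pos (α := G)
    nlinarith

/-- `|U| ≥ 2`. -/
theorem one_lt_card_U [IsSimpleGroup G] (hG : ¬ IsMulCommutative G) (hdvd : p ∣ Nat.card G)
    (hq1 : q ≠ 1) : 2 ≤ (U P e0).card := by
  by_contra hcon
  have hcard : (U P e0).card ≤ 1 := by omega
  refine not_simple_of_complement P (cyclic P e0) hG hdvd (complement_of_central P (cyclic P e0) ?_)
  intro n hn _ x hx
  obtain ⟨r, hr⟩ := exists_gp P e0 ((Subgroup.mem_normalizer_iff.1 hn _).1 (gp_mem P e0 1))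
  have hr1 : r = 1 := Finset.card_le_one.1 hcard r ((mem_U P e0).2 ⟨n, hn, hr.symm⟩) 1 (one_mem_U P e0)
  obtain ⟨k, rfl⟩ := exists_gp P e0 hx
  have h := conj_gp P e0 hr.symm k
  rw [hr1, one_mul, mul_inv_eq_iff_eq_mul] at h
  exact h

end Cfsg.Agent.Lib.Characters.PairCount.Cyclic
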